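import Cfsg.Agent.Lib.Known.E7Torus.Pairing
import Cfsg.Agent.Lib.Known.ScTorus.E6

/-!
# The characteristic polynomial of an element of `W(E₇)` with a primitive twelfth root of unity as eigenvalue
-/

set_option autoImplicit false
set_option maxHeartbeats 800000

namespace CfsgLib.Known.E7Torus

open Cfsg.Lie (ChevalleyDatum chevE7)
open CfsgLib.Lie.Chev
open CfsgLib.Known.Homocyclic (bE7 vE7)
open scoped Matrix
open Polynomial

variable {r : ℕ}

/-- The data attached to an eigenvalue of order twelve. -/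
structure Eig {F : Type*} [Field F] {G : Type*} [Group G] (R : Rel chevE7 auxE7 F G)
    (W : Matrix (Fin 7) (Fin 7) ℤ) (a : Fin 7 → ZMod r) (z : ZMod r) : Prop where
  inW : InW R W
  ne : a ≠ 0
  eig : a ᵥ* W.map (Int.cast : ℤ → ZMod r) = z • a
  prim : IsPrimitiveRoot z 12
  large : 13 ≤ r

theorem pow_twelve_of_totient {n : ℕ} (hn : 0 < n) (h : n.totient ≤ 3) : n ∣ 12 := by
  refine (Nat.dvd_iff_prime_pow_dvd_dvd 12 n).2 fun p k hp hpk => ?_
  rcases Nat.eq_zero_or_pos k with rfl | hk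
  · simp
  have h1 : (p ^ k).totient ≤ 3 :=
    (Nat.le_of_dvd (Nat.totient_pos.2 hn) (Nat.totient_dvd_of_dvd hpk)).trans h
  rw [Nat.totient_prime_pow hp hk] at h1
  have hp2 := hp.two_le
  have h2 : p - 1 ≤ 3 := le_trans (Nat.le_mul_of_pos_left _ (pow_pos hp.pos _)) h1
  have hp4 : p ≤ 4 := by omega
  interval_cases p
  · have hk2 : k ≤ 2 := by
      by_contra hk3
      have : 2 ^ 2 ≤ 2 ^ (k - 1) := Nat.pow_le_pow_right two_pos (by omega)
      norm_num at h1 this
      omega
    interval_cases k <;> decide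
  · have hk2 : k ≤ 1 := by
      by_contra hk3
      have : 3 ^ 1 ≤ 3 ^ (k - 1) := Nat.pow_le_pow_right (by norm_num) (by omega)
      norm_num at h1 this
      omega
    interval_cases k
    decide
  · exact absurd hp (by norm_num)

variable {F : Type*} [Field F] {G : Type*} [Group G] {R : Rel chevE7 auxE7 F G}
  [Fact r.Prime] {W : Matrix (Fin 7) (Fin 7) ℤ} {a : Fin 7 → ZMod r} {z : ZMod r}

theorem Eig.z_pow_six (h : Eig R W a z) : z ^ 6 = -1 :=
  (mul_self_eq_one_iff.1 (show z ^ 6 * z ^ 6 = 1 by rw [← pow_add]; exact h.prim.pow_eq_one)).resolve_left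
    (h.prim.pow_ne_one_of_pos_of_lt (by norm_num) (by norm_num))

omit [Fact r.Prime] in
theorem Eig.not_dvd (h : Eig R W a z) : ¬ r ∣ 12 := fun h12 => by
  have := Nat.le_of_dvd (by norm_num) h12
  have := h.large
  omega

theorem Eig.dvd_charpoly (h : Eig R W a z) : cyclotomic 12 ℤ ∣ W.charpoly := by
  obtain ⟨m, hm, hWm⟩ := h.inW.finite_order
  obtain ⟨o, ho, hWo, hro⟩ := ScTorus.exists_order_not_dvd (r := r) hm hWm (by have := h.large; omega)
  obtain ⟨b, hb, -, hcard⟩ := ScTorus.card_left_eigen W ho hWo hro h.not_dvd h.prim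
  refine (dvd_pow_self _ (fun h0 => ?_)).trans hb
  rw [h0, pow_zero, Nat.card_eq_one_iff_unique] at hcard
  have := hcard.1.elim ⟨a, h.eig⟩ ⟨0, by simp⟩
  exact h.ne (congrArg Subtype.val this)

/-- The characteristic polynomial divides a power of `Φ₁₂ (X⁶ - 1)`. -/
theorem Eig.charpoly_dvd (h : Eig R W a z) :
    W.charpoly ∣ (cyclotomic 12 ℤ * (X ^ 6 - 1)) ^ 7 := by
  obtain ⟨m, hm, hWm⟩ := h.inW.finite_order
  obtain ⟨u, hu⟩ := h.dvd_charpoly
  have hum : u.Monic := (cyclotomic.monic 12 ℤ).of_mul_monic_left (hu ▸ W.charpoly_monic)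
  have hud : u.natDegree = 3 := by
    have h1 := congrArg natDegree hu
    rw [(cyclotomic.monic 12 ℤ).natDegree_mul hum, natDegree_cyclotomic, Matrix.charpoly_natDegree_eq_dim,
      Fintype.card_fin, show Nat.totient 12 = 4 from by decide] at h1
    omega
  have hroot : ∀ x : ℂ, aeval x u = 0 → x ^ 6 = 1 := by
    intro x hx
    have hxm : x ^ m = 1 := Homocyclic.pow_eq_one_of_charpoly_root hWm (by rw [hu, map_mul, hx, mul_zero])
    obtain ⟨n, hn⟩ : ∃ n, n = orderOf x := ⟨_, rfl⟩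
    have hn0 : 0 < n := hn ▸ (isOfFinOrder_iff_pow_eq_one.2 ⟨m, hm, hxm⟩).orderOf_pos
    have hprim : IsPrimitiveRoot x n := hn ▸ IsPrimitiveRoot.orderOf x
    have hd : cyclotomic n ℤ ∣ u := by
      rw [cyclotomic_eq_minpoly hprim hn0]
      exact minpoly.isIntegrallyClosed_dvd (hprim.isIntegral hn0) hx
    have htot : n.totient ≤ 3 := by
      have := natDegree_le_of_dvd hd hum.ne_zero
      rwa [natDegree_cyclotomic, hud] at this
    have h12 := pow_twelve_of_totient hn0 htot
    by_contra h6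
    have h6' : ¬ n ∣ 6 := fun hd6 => h6 (orderOf_dvd_iff_pow_eq_one.1 (hn ▸ hd6))
    have hle := Nat.le_of_dvd (by norm_num) h12
    have hn4 : n = 4 := by
      interval_cases n <;> first | rfl | (exfalso; revert h12 h6' htot; decide)
    -- the case of a fourth root of unity
    subst hn4
    obtain ⟨ε, hε, hχ⟩ := Homocyclic.exists_linear_cofactor hm hWm (Φ := cyclotomic 12 ℤ * cyclotomic 4 ℤ) (n := 1)
      ((cyclotomic.monic 12 ℤ).mul (cyclotomic.monic 4 ℤ)) (by
        rw [(cyclotomic.monic 12 ℤ).natDegree_mul (cyclotomic.monic 4 ℤ), natDegree_cyclotomic, natDegree_cyclotomic]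
        decide)
      (by rw [pow_one, hu, hn]; exact mul_dvd_mul_left _ (hn ▸ hd))
    rw [pow_one] at hχ
    have h0 := W.aeval_self_charpoly
    rw [hχ, ScTorus.cyclotomic_twelve, Homocyclic.cyclotomic_four] at h0
    simp only [map_mul, map_add, map_sub, map_pow, aeval_X, map_one, aeval_C] at h0
    rw [Algebra.algebraMap_eq_smul_one] at h0
    have e6 : (W ^ 4 - W ^ 2 + 1) * (W ^ 2 + 1) = W ^ 6 + 1 := by noncomm_ring
    rw [e6, mul_sub, mul_smul_comm, mul_one, sub_eq_zero] at h0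
    have hε2 : ε * ε = 1 := by rcases hε with rfl | rfl <;> ring
    have hWM : W * (W ^ 6 + 1) = ε • (W ^ 6 + 1) := by rw [← h0]; noncomm_ring
    have hM3 : ((W ^ 3) ^ 2 + 1) * W ^ 3 = ε • ((W ^ 3) ^ 2 + 1) := by
      rw [← pow_mul, show 3 * 2 = 6 from rfl]
      calc (W ^ 6 + 1) * W ^ 3 = (W ^ 6 + 1) * W * W * W := by noncomm_ring
        _ = ε • (ε • (ε • (W ^ 6 + 1))) := by rw [h0, Matrix.smul_mul, h0, Matrix.smul_mul, Matrix.smul_mul, h0]
        _ = ε • (W ^ 6 + 1) := by rw [smul_smul, smul_smul, mul_assoc, hε2, mul_one]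
    refine Homocyclic.no_three_E7_core (W ^ 3) (h.inW.pow 3).roots (h.inW.pow 3).form hε hM3
      fun M hM _ => Homocyclic.minors_eq_zero (p := cyclotomic 12 ℤ * cyclotomic 4 ℤ) ?_ hχ ?_
    · rw [ScTorus.cyclotomic_twelve, Homocyclic.cyclotomic_four]
      rcases hε with rfl | rfl <;> norm_num
    · rw [hM, ← pow_mul, show 3 * 2 = 6 from rfl]
      exact hWM
  have hdvd : u ∣ (X ^ 6 - 1) ^ 7 := by
    refine (Polynomial.map_dvd_map (Int.castRingHom ℂ) Int.cast_injective hum).1 ?_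
    have hum' : (u.map (Int.castRingHom ℂ)).Monic := hum.map _
    rw [(IsAlgClosed.splits _).eq_prod_roots_of_monic hum', Polynomial.map_pow, Polynomial.map_sub,
      Polynomial.map_pow, map_X, Polynomial.map_one]
    refine Dvd.dvd.trans (Multiset.prod_dvd_prod_of_dvd _ (fun _ => (X : ℂ[X]) ^ 6 - 1) fun x hx => ?_) ?_
    · have hx0 : aeval x u = 0 := by
        have := isRoot_of_mem_roots hx
        rwa [IsRoot.def, eval_map] at this
      rw [dvd_iff_isRoot, IsRoot.def, eval_sub, eval_pow, eval_X, eval_one, hroot x hx0, sub_self]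
    · rw [Multiset.map_const', Multiset.prod_replicate, IsAlgClosed.card_roots_eq_natDegree, hum.natDegree_map, hud]
      exact pow_dvd_pow _ (by norm_num)
  rw [hu, mul_pow]
  exact mul_dvd_mul (dvd_pow_self _ (by norm_num)) hdvd

end CfsgLib.Known.E7Torus
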