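import Cfsg.Agent.Lib.Known.E7Torus.Roots

/-!
# The cycle of three vanishing roots
-/

set_option autoImplicit false
set_option maxHeartbeats 800000

namespace CfsgLib.Known.E7Torus

open Cfsg.Lie (ChevalleyDatum chevE7)
open CfsgLib.Lie.Chev
open CfsgLib.Known.Homocyclic (bE7 vE7)
open scoped Matrix
open Polynomial

variable {r : ℕ} [Fact r.Prime] {F : Type*} [Field F] {G : Type*} [Group G] {R : Rel chevE7 auxE7 F G}
  {W : Matrix (Fin 7) (Fin 7) ℤ} {a : Fin 7 → ZMod r} {z : ZMod r} [Finite G]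

/-- Three orthogonal vanishing roots. -/
structure Triple (a : Fin 7 → ZMod r) (b₁ b₂ b₃ : Fin 7 → ℤ) : Prop where
  v₁ : Van a b₁
  v₂ : Van a b₂
  v₃ : Van a b₃
  o₁₂ : ip b₁ b₂ = 0
  o₁₃ : ip b₁ b₃ = 0
  o₂₃ : ip b₂ b₃ = 0

theorem Eig.det_neg (h : Eig R W a z) : (-W ^ 6).det = -1 := by
  rw [Matrix.det_neg, Fintype.card_fin, Matrix.det_pow]
  have h2 : W.det ^ 12 = 1 := by rw [← Matrix.det_pow, h.pow_twelve, Matrix.det_one]
  rcases Int.isUnit_iff.1 (IsUnit.of_pow_eq_one h2 (by norm_num)) with h3 | h3 <;> rw [h3] <;> norm_num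

theorem Eig.exists_triple (h : Eig R W a z) : ∃ b₁ b₂ b₃, Triple a b₁ b₂ b₃ := by
  obtain ⟨hM, hM2, hMa⟩ := h.sigma
  have hr2 : ¬ r ∣ 2 := fun hd => by have := Nat.le_of_dvd two_pos hd; have := h.large; omega
  rcases hM.eq_one_or_exists (o := 2) (by rw [pow_two]; exact hM2) hr2 hMa 0 (Matrix.zero_vecMul _)
      (fun s => by rw [ip_zero_left]; norm_num) with h0 | ⟨s₁, hs₁, -⟩
  · exfalso
    have hd := h.det_neg
    rw [h0, Matrix.det_one] at hd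
    norm_num at hd
  obtain ⟨b, hb⟩ : ∃ b, b = vE7 (s₁ : ℕ) := ⟨_, rfl⟩
  have v1 : Van a b := ⟨⟨s₁, hb⟩, hb ▸ hs₁⟩
  have hneg : ∀ {c}, Van a c → c ᵥ* (-W ^ 6) = -c := fun hc => by rw [Matrix.vecMul_neg, hc.fixed h]
  obtain ⟨p1, q1⟩ := invol_mul_rfn hM hM2 v1.norm (hneg v1)
  have w1 : InW R (-W ^ 6 * rfn b) := hM.mul (hb ▸ InW.reflection s₁)
  rcases w1.eq_one_or_exists (o := 2) (by rw [pow_two]; exact p1) hr2 (hMa.mul (fixes_rfn v1.2)) b q1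
      (fun s => by have := v1.bound s; omega) with h1 | ⟨s₂, hs₂, hs₂'⟩
  · exfalso
    -- `-W⁶` is a reflection
    have hW6 : ∀ x, x ᵥ* W ^ 6 = ip x b • b - x := by
      intro x
      have hM1 : -W ^ 6 = rfn b := vecMul_ext fun y => by
        have e := congrArg (fun A => (y ᵥ* rfn b) ᵥ* A) h1
        have hb2 : ip b b = 2 := v1.norm
        have hsq : ∀ u, (u ᵥ* rfn b) ᵥ* rfn b = u := fun u => by
          rw [vecMul_rfn, vecMul_rfn, ip_sub_left, ip_smul_left, hb2,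
            show ip u b - ip u b * 2 = -ip u b by ring, neg_smul]
          abel
        have e2 : ((y ᵥ* (-W ^ 6)) ᵥ* rfn b) ᵥ* rfn b = y ᵥ* rfn b := by
          rw [Matrix.vecMul_vecMul _ (-W ^ 6), h1, Matrix.vecMul_one]
        rwa [hsq] at e2
      have := congrArg (fun A => x ᵥ* A) hM1
      simp only [Matrix.vecMul_neg, vecMul_rfn] at this
      rw [neg_eq_iff_eq_neg] at this
      rw [this]; abel
    have v2 := v1.mapW h
    obtain ⟨c, hc⟩ : ∃ c, c = b ᵥ* W := ⟨_, rfl⟩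
    rw [← hc] at v2
    have h2c : (2 : ℤ) • c = ip c b • b := by
      have := hW6 c
      rw [v2.fixed h, eq_sub_iff_add_eq] at this
      rw [two_smul, this]
    have hcb : ip c b = 2 ∨ ip c b = -2 := by
      have h3 := congrArg (fun u => ip u u) h2c
      simp only [ip_smul_left, ip_smul_right, v2.norm, v1.norm] at h3
      have : ip c b ^ 2 = 2 ^ 2 := by linarith
      rcases sq_eq_sq_iff_eq_or_eq_neg.1 this with h4 | h4 <;> omega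
    obtain ⟨ε, hε, hcε⟩ : ∃ ε : ℤ, (ε = 1 ∨ ε = -1) ∧ c = ε • b := by
      rcases hcb with h4 | h4 <;> rw [h4] at h2c
      · exact ⟨1, Or.inl rfl, by rw [one_smul]; exact smul_right_injective _ (two_ne_zero : (2 : ℤ) ≠ 0) h2c⟩
      · refine ⟨-1, Or.inr rfl, smul_right_injective _ (two_ne_zero : (2 : ℤ) ≠ 0) ?_⟩
        show (2 : ℤ) • c = (2 : ℤ) • ((-1 : ℤ) • b)
        rw [h2c, smul_smul]; rfl
    have hε2 : ε * ε = 1 := by rcases hε with rfl | rfl <;> ring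
    have hb3 : b ᵥ* W ^ 3 = ε • b := by
      have e : b ᵥ* W = ε • b := by rw [← hc, hcε]
      rw [pow_succ, pow_succ, pow_one, ← Matrix.vecMul_vecMul, ← Matrix.vecMul_vecMul, e, Matrix.smul_vecMul, e,
        smul_smul, hε2, one_smul, e]
    obtain ⟨t, ht⟩ := exists_odd s₁
    rw [← hb] at ht
    obtain ⟨u, hu⟩ : ∃ u, u = vE7 (t : ℕ) ᵥ* W ^ 3 := ⟨_, rfl⟩
    have e1 : ip u (vE7 t) = ip (u ᵥ* W ^ 3) u := by
      conv_rhs => arg 2; rw [hu]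
      rw [(h.inW.pow 3).ip_eq]
    have e2 : ip (u ᵥ* W ^ 3) u = ip b u - ip (vE7 t) u := by
      conv_lhs => rw [hu, Matrix.vecMul_vecMul, ← pow_add, hW6, ht, one_smul, ip_sub_left]
      rw [← hu]
    have e3 : ip b u = ε := by
      have h5 : ip (b ᵥ* W ^ 3) u = ip b (vE7 t) := by rw [hu]; exact (h.inW.pow 3).ip_eq _ _
      rw [hb3, ip_smul_left, ip_comm b (vE7 t), ht] at h5
      calc ip b u = ε * (ε * ip b u) := by rw [← mul_assoc, hε2, one_mul]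
        _ = ε := by rw [h5, mul_one]
    rw [ip_comm (vE7 t) u] at e2
    omega
  obtain ⟨b₂, hb₂⟩ : ∃ b₂, b₂ = vE7 (s₂ : ℕ) := ⟨_, rfl⟩
  rw [← hb₂] at hs₂ hs₂'
  have v2 : Van a b₂ := ⟨⟨s₂, hb₂⟩, hs₂⟩
  obtain ⟨M1, hM1⟩ : ∃ M1, M1 = -W ^ 6 * rfn b := ⟨_, rfl⟩
  rw [← hM1] at p1 q1 w1
  have o21 : ip b₂ b = 0 := by rw [ip_comm]; exact hs₂'
  have f2 : b₂ ᵥ* M1 = -b₂ := by
    rw [hM1, ← Matrix.vecMul_vecMul, hneg v2, Matrix.neg_vecMul, vecMul_rfn, o21, zero_smul, sub_zero]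
  obtain ⟨p2, q2⟩ := invol_mul_rfn w1 p1 v2.norm f2
  have w2 : InW R (M1 * rfn b₂) := w1.mul (hb₂ ▸ InW.reflection s₂)
  have g1 : b ᵥ* (M1 * rfn b₂) = b := by
    rw [← Matrix.vecMul_vecMul, q1, vecMul_rfn, hs₂', zero_smul, sub_zero]
  have hfa : Fixes a (M1 * rfn b₂) := hM1 ▸ (hMa.mul (fixes_rfn v1.2)).mul (fixes_rfn v2.2)
  rcases w2.eq_one_or_exists (o := 2) (by rw [pow_two]; exact p2) hr2 hfa (b + 5 • b₂)
      (by simp only [Matrix.add_vecMul, Matrix.smul_vecMul, g1, q2]) (fun s => by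
        have := v1.bound s; have := v2.bound s
        simp only [ip_add_left, ← natCast_zsmul, ip_smul_left]
        omega) with h2 | ⟨s₃, hs₃, hs₃'⟩
  · exfalso
    have hd := congrArg Matrix.det h2
    rw [hM1, Matrix.det_mul, Matrix.det_mul, h.det_neg, rfn_det v1.norm, rfn_det v2.norm, Matrix.det_one] at hd
    norm_num at hd
  simp only [ip_add_left, ← natCast_zsmul, ip_smul_left] at hs₃'
  have := v1.bound s₃; have := v2.bound s₃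
  exact ⟨b, b₂, vE7 s₃, v1, v2, ⟨⟨s₃, rfl⟩, hs₃⟩, hs₂', by omega, by omega⟩

/-- A vanishing root is up to sign one of the three. -/
theorem Triple.only {b₁ b₂ b₃ : Fin 7 → ℤ} (T : Triple a b₁ b₂ b₃) (h : Eig R W a z) {c : Fin 7 → ℤ}
    (hc : Van a c) : c = b₁ ∨ c = -b₁ ∨ c = b₂ ∨ c = -b₂ ∨ c = b₃ ∨ c = -b₃ := by
  have e := h.sigma_eq T.v₁ T.v₂ T.v₃ T.o₁₂ T.o₁₃ T.o₂₃ c
  rw [hc.fixed h, eq_sub_iff_add_eq] at e
  obtain ⟨c₁, hc₁⟩ : ∃ k, k = ip c b₁ := ⟨_, rfl⟩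
  obtain ⟨c₂, hc₂⟩ : ∃ k, k = ip c b₂ := ⟨_, rfl⟩
  obtain ⟨c₃, hc₃⟩ : ∃ k, k = ip c b₃ := ⟨_, rfl⟩
  rw [← hc₁, ← hc₂, ← hc₃] at e
  have hn : c₁ ^ 2 + c₂ ^ 2 + c₃ ^ 2 = 4 := by
    have h3 := congrArg (fun u => ip u u) e
    simp only [ip_add_left, ip_add_right, ip_smul_left, ip_smul_right, hc.norm, T.v₁.norm, T.v₂.norm, T.v₃.norm,
      T.o₁₂, T.o₁₃, T.o₂₃, ip_comm b₂ b₁, ip_comm b₃ b₁, ip_comm b₃ b₂] at h3
    linarith
  have hbd : ∀ {b}, Van a b → -2 ≤ ip c b ∧ ip c b ≤ 2 := fun {b} hb => by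
    obtain ⟨⟨s, hs⟩, -⟩ := id hc
    have := hb.bound s
    rw [← hs, ip_comm b] at this
    exact this
  have q1 := hbd T.v₁; have q2 := hbd T.v₂; have q3 := hbd T.v₃
  rw [← hc₁] at q1; rw [← hc₂] at q2; rw [← hc₃] at q3
  have hhalf : ∀ (k : ℤ) (b : Fin 7 → ℤ), (k = 2 ∨ k = -2) → c + c = k • b → c = b ∨ c = -b := by
    intro k b hk hcc
    rcases hk with rfl | rfl
    · exact Or.inl (funext fun i => by have := congrFun hcc i; simp at this; omega)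
    · exact Or.inr (funext fun i => by have := congrFun hcc i; simp at this ⊢; omega)
  have hcases : ((c₁ = 2 ∨ c₁ = -2) ∧ c₂ = 0 ∧ c₃ = 0) ∨ ((c₂ = 2 ∨ c₂ = -2) ∧ c₁ = 0 ∧ c₃ = 0) ∨
      ((c₃ = 2 ∨ c₃ = -2) ∧ c₁ = 0 ∧ c₂ = 0) := by
    have q1 := hbd T.v₁
    rw [← hc₁] at q1
    obtain ⟨a1, a2⟩ := q1
    obtain ⟨a3, a4⟩ := q2
    obtain ⟨a5, a6⟩ := q3
    interval_cases c₁ <;> interval_cases c₂ <;> interval_cases c₃ <;> (revert hn; norm_num)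
  rcases hcases with ⟨hk, e2, e3⟩ | ⟨hk, e1, e3⟩ | ⟨hk, e1, e2⟩
  · rw [e2, e3, zero_smul, zero_smul, add_zero, add_zero] at e
    rcases hhalf _ _ hk e with h4 | h4 <;> simp [h4]
  · rw [e1, e3, zero_smul, zero_smul, zero_add, add_zero] at e
    rcases hhalf _ _ hk e with h4 | h4 <;> simp [h4]
  · rw [e1, e2, zero_smul, zero_smul, zero_add, zero_add] at e
    rcases hhalf _ _ hk e with h4 | h4 <;> simp [h4]

/-- None of the three lines is fixed. -/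
theorem Triple.no_fixed_line {b₁ b₂ b₃ : Fin 7 → ℤ} (T : Triple a b₁ b₂ b₃) (h : Eig R W a z)
    (h4 : b₁ ᵥ* W ^ 4 = b₁ ∧ b₂ ᵥ* W ^ 4 = b₂ ∧ b₃ ᵥ* W ^ 4 = b₃) : False := by
  obtain ⟨⟨s, hs⟩, -⟩ := id T.v₁
  obtain ⟨t, ht⟩ := exists_odd s
  rw [← hs] at ht
  obtain ⟨v, hv⟩ : ∃ v, v = vE7 (t : ℕ) := ⟨_, rfl⟩
  rw [← hv] at ht
  obtain ⟨p, hp⟩ : ∃ p, p = v + v ᵥ* W ^ 4 + v ᵥ* W ^ 8 := ⟨_, rfl⟩
  have hp6 : p ᵥ* W ^ 6 = p := by
    have e : p = v ᵥ* ((W ^ 4 - W ^ 2 + 1) * (W ^ 4 + W ^ 2 + 1)) := by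
      rw [show (W ^ 4 - W ^ 2 + 1) * (W ^ 4 + W ^ 2 + 1) = 1 + W ^ 4 + W ^ 8 by noncomm_ring, hp,
        Matrix.vecMul_add, Matrix.vecMul_add, Matrix.vecMul_one]
    rw [e, Matrix.vecMul_vecMul]
    congr 1
    refine sub_eq_zero.1 (Eq.trans (show _ = ((W ^ 4 - W ^ 2 + 1) * (W ^ 6 - 1)) * (W ^ 4 + W ^ 2 + 1) from ?_)
      (by rw [h.annihilated, zero_mul]))
    noncomm_ring
  have hc : ∀ {b}, b ᵥ* W ^ 4 = b → ip p b = 3 * ip v b := fun {b} hb => by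
    have h8 : b ᵥ* W ^ 8 = b := by
      rw [show (8 : ℕ) = 4 + 4 from rfl, pow_add, ← Matrix.vecMul_vecMul, hb, hb]
    have k4 : ip (v ᵥ* W ^ 4) b = ip v b := by
      conv_lhs => rw [← hb]
      exact (h.inW.pow 4).ip_eq v b
    have k8 : ip (v ᵥ* W ^ 8) b = ip v b := by
      conv_lhs => rw [← h8]
      exact (h.inW.pow 8).ip_eq v b
    rw [hp, ip_add_left, ip_add_left, k4, k8]
    ring
  have e := h.sigma_eq T.v₁ T.v₂ T.v₃ T.o₁₂ T.o₁₃ T.o₂₃ p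
  rw [hp6, hc h4.1, hc h4.2.1, hc h4.2.2, eq_sub_iff_add_eq, ht] at e
  obtain ⟨c₂, hc₂⟩ : ∃ k, k = ip v b₂ := ⟨_, rfl⟩
  obtain ⟨c₃, hc₃⟩ : ∃ k, k = ip v b₃ := ⟨_, rfl⟩
  rw [← hc₂, ← hc₃] at e
  obtain ⟨S, hS⟩ : ∃ S, S = b₁ + c₂ • b₂ + c₃ • b₃ := ⟨_, rfl⟩
  obtain ⟨g, hg⟩ : ∃ g, g = p - S := ⟨_, rfl⟩
  have hg2 : g + g = S := by
    rw [hg, hS]
    funext i
    have := congrFun e i
    simp at this ⊢
    linarith
  have hSS : ip S S = 2 * (1 + c₂ ^ 2 + c₃ ^ 2) := by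
    rw [hS]
    simp only [ip_add_left, ip_add_right, ip_smul_left, ip_smul_right, T.v₁.norm, T.v₂.norm, T.v₃.norm,
      T.o₁₂, T.o₁₃, T.o₂₃, ip_comm b₂ b₁, ip_comm b₃ b₁, ip_comm b₃ b₂]
    ring
  have hgg : 4 * ip g g = ip S S := by
    rw [← hg2]; simp only [ip_add_left, ip_add_right]; ring
  have hvS : 2 * ip v g = 1 + c₂ ^ 2 + c₃ ^ 2 := by
    have : 2 * ip v g = ip v S := by rw [← hg2, ip_add_right]; ring
    rw [this, hS, ip_add_right, ip_add_right, ip_smul_right, ip_smul_right, ht, ← hc₂, ← hc₃]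
    ring
  have hpos := (ip_pos (v - g)).1
  have hvv : ip v v = 2 := hv ▸ ip_self_root t
  rw [ip_sub_left, ip_sub_right, ip_sub_right, ip_comm g v, hvv] at hpos
  obtain ⟨k, hk⟩ := ip_even g
  have hb2 := T.v₂.bound t
  have hb3 := T.v₃.bound t
  rw [← hv, ip_comm b₂, ← hc₂] at hb2
  rw [← hv, ip_comm b₃, ← hc₃] at hb3
  obtain ⟨a3, a4⟩ := hb2
  obtain ⟨a5, a6⟩ := hb3
  interval_cases c₂ <;> interval_cases c₃ <;> omega

/-- The cycle. -/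
theorem Eig.exists_cycle (h : Eig R W a z) :
    ∃ (b₁ b₂ b₃ : Fin 7 → ℤ) (δ : ℤ), Triple a b₁ b₂ b₃ ∧ (δ = 1 ∨ δ = -1) ∧
      b₁ ᵥ* W = b₂ ∧ b₂ ᵥ* W = b₃ ∧ b₃ ᵥ* W = δ • b₁ := by
  obtain ⟨b, c, d, T⟩ := h.exists_triple
  have hW12 := h.pow_twelve
  have hinj : ∀ {u v : Fin 7 → ℤ}, u ᵥ* W = v ᵥ* W → u = v := fun {u v} e => by
    have := congrArg (fun x => x ᵥ* W ^ 11) e
    simpa only [Matrix.vecMul_vecMul, ← pow_succ', hW12, Matrix.vecMul_one] using this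
  -- two roots exchanged up to signs are fixed by the fourth power
  have hsame : ∀ {u : Fin 7 → ℤ}, (u ᵥ* W = u ∨ u ᵥ* W = -u) → u ᵥ* W ^ 4 = u := fun {u} hu => by
    rw [show W ^ 4 = W * W * W * W by noncomm_ring]
    simp only [← Matrix.vecMul_vecMul]
    rcases hu with e | e <;> simp only [e, Matrix.neg_vecMul, neg_neg]
  have hswap : ∀ {u v : Fin 7 → ℤ}, (u ᵥ* W = v ∨ u ᵥ* W = -v) → (v ᵥ* W = u ∨ v ᵥ* W = -u) →
      u ᵥ* W ^ 4 = u ∧ v ᵥ* W ^ 4 = v := fun {u v} hu hv => by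
    rw [show W ^ 4 = W * W * W * W by noncomm_ring]
    simp only [← Matrix.vecMul_vecMul]
    rcases hu with e | e <;> rcases hv with e' | e' <;> simp only [e, e', Matrix.neg_vecMul, neg_neg, and_self]
  have hne : ∀ {u v : Fin 7 → ℤ}, ip u u = 2 → ip u v = 0 → u ≠ v ∧ u ≠ -v := fun {u v} hu huv =>
    ⟨fun e => by rw [← e, hu] at huv; omega, fun e => by
      rw [show v = -u by rw [e, neg_neg], ip_neg_right, hu] at huv; omega⟩
  -- images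
  have key : ∀ {p q t : Fin 7 → ℤ}, Triple a p q t → (p ᵥ* W = p ∨ p ᵥ* W = -p) → False := by
    intro p q t Tp hp
    refine Tp.no_fixed_line h ?_
    have hq := Tp.only h (Tp.v₂.mapW h)
    have ht := Tp.only h (Tp.v₃.mapW h)
    have np2 := hne Tp.v₂.norm (show ip q p = 0 by rw [ip_comm]; exact Tp.o₁₂)
    have np3 := hne Tp.v₃.norm (show ip t p = 0 by rw [ip_comm]; exact Tp.o₁₃)
    have n23 := hne Tp.v₂.norm Tp.o₂₃
    have hnotp : ∀ {u : Fin 7 → ℤ}, u ≠ p → u ≠ -p → u ᵥ* W ≠ p ∧ u ᵥ* W ≠ -p := fun {u} h1 h2 => by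
      rcases hp with e | e
      · exact ⟨fun h3 => h1 (hinj (h3.trans e.symm)), fun h3 => h2 (hinj (by rw [Matrix.neg_vecMul, h3, e]))⟩
      · exact ⟨fun h3 => h2 (hinj (by rw [Matrix.neg_vecMul, h3, e, neg_neg])), fun h3 => h1 (hinj (h3.trans e.symm))⟩
    have hqn := hnotp np2.1 np2.2
    have htn := hnotp np3.1 np3.2
    have hq' : (q ᵥ* W = q ∨ q ᵥ* W = -q) ∨ (q ᵥ* W = t ∨ q ᵥ* W = -t) := by tauto
    have ht' : (t ᵥ* W = t ∨ t ᵥ* W = -t) ∨ (t ᵥ* W = q ∨ t ᵥ* W = -q) := by tauto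
    rcases hq' with hq1 | hq1 <;> rcases ht' with ht1 | ht1
    · exact ⟨hsame hp, hsame hq1, hsame ht1⟩
    · exfalso
      rcases hq1 with e | e <;> rcases ht1 with e' | e'
      · exact n23.1 (hinj (e.trans e'.symm))
      · exact n23.2 (hinj (by rw [Matrix.neg_vecMul, e, e', neg_neg]))
      · exact n23.2 (hinj (by rw [Matrix.neg_vecMul, e, e']))
      · exact n23.1 (hinj (e.trans e'.symm))
    · exfalso
      rcases hq1 with e | e <;> rcases ht1 with e' | e'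
      · exact n23.1 (hinj (e.trans e'.symm))
      · exact n23.2 (hinj (by rw [Matrix.neg_vecMul, e, e', neg_neg]))
      · exact n23.2 (hinj (by rw [Matrix.neg_vecMul, e, e']))
      · exact n23.1 (hinj (e.trans e'.symm))
    · exact ⟨hsame hp, hswap hq1 ht1⟩
  have rot : ∀ {p q t : Fin 7 → ℤ}, Triple a p q t → Triple a t p q := fun {p q t} U =>
    ⟨U.v₃, U.v₁, U.v₂, by rw [ip_comm]; exact U.o₁₃, by rw [ip_comm]; exact U.o₂₃, U.o₁₂⟩
  -- the second root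
  obtain ⟨b₂, hb₂⟩ : ∃ b₂, b₂ = b ᵥ* W := ⟨_, rfl⟩
  obtain ⟨b₃, hb₃⟩ : ∃ b₃, b₃ = b₂ ᵥ* W := ⟨_, rfl⟩
  have hV2 : Van a b₂ := hb₂ ▸ T.v₁.mapW h
  have hV3 : Van a b₃ := hb₃ ▸ hV2.mapW h
  -- products
  have o12 : ip b b₂ = 0 := by
    rcases T.only h hV2 with e | e | e | e | e | e
    · exact (key T (Or.inl (hb₂ ▸ e))).elim
    · exact (key T (Or.inr (hb₂ ▸ e))).elim
    all_goals subst e; simp only [ip_neg_right, T.o₁₂, T.o₁₃, neg_zero]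
  have o23 : ip b₂ b₃ = 0 := by
    conv_lhs => rw [hb₃, hb₂, h.inW.ip_eq, ← hb₂]
    exact o12
  have noswap : ¬ (b₃ = b ∨ b₃ = -b) := by
    intro e3
    obtain ⟨t, U'⟩ : ∃ t, Triple a b b₂ t := by
      rcases T.only h hV2 with e | e | e | e | e | e
      · exact (key T (Or.inl (hb₂ ▸ e))).elim
      · exact (key T (Or.inr (hb₂ ▸ e))).elim
      · exact ⟨d, T.v₁, hV2, T.v₃, o12, T.o₁₃, by rw [e]; exact T.o₂₃⟩
      · exact ⟨d, T.v₁, hV2, T.v₃, o12, T.o₁₃, by rw [e, ip_neg_left, T.o₂₃, neg_zero]⟩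
      · exact ⟨c, T.v₁, hV2, T.v₂, o12, T.o₁₂, by rw [e, ip_comm]; exact T.o₂₃⟩
      · exact ⟨c, T.v₁, hV2, T.v₂, o12, T.o₁₂, by rw [e, ip_neg_left, ip_comm, T.o₂₃, neg_zero]⟩
    have hzero : ∀ {u : Fin 7 → ℤ}, (u = b ∨ u = -b ∨ u = b₂ ∨ u = -b₂) → ip u t = 0 := by
      rintro u (rfl | rfl | rfl | rfl) <;> simp only [ip_neg_left, U'.o₁₃, U'.o₂₃, neg_zero]
    rcases U'.only h (U'.v₃.mapW h) with e | e | e | e | e | e
    all_goals try exact key (rot U') (by first | exact Or.inl e | exact Or.inr e)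
    all_goals
      have h1 := h.inW.ip_eq t b
      have h2 := h.inW.ip_eq t b₂
      rw [← hb₂, e] at h1
      rw [← hb₃, e] at h2
      have h3 : ip t b = 0 := by rw [ip_comm]; exact U'.o₁₃
      have h4 : ip t b₂ = 0 := by rw [ip_comm]; exact U'.o₂₃
      rcases e3 with f | f <;> rw [f] at h2 <;>
        simp only [ip_neg_left, ip_neg_right, T.v₁.norm, hV2.norm, h3, h4] at h1 h2 <;> omega
  have o13 : ip b b₃ = 0 := by
    rcases T.only h hV3 with e | e | e | e | e | e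
    · exact (noswap (Or.inl e)).elim
    · exact (noswap (Or.inr e)).elim
    all_goals subst e; simp only [ip_neg_right, T.o₁₂, T.o₁₃, neg_zero]
  have U : Triple a b b₂ b₃ := ⟨T.v₁, hV2, hV3, o12, o13, o23⟩
  rcases U.only h (hV3.mapW h) with e | e | e | e | e | e
  · exact ⟨b, b₂, b₃, 1, U, Or.inl rfl, hb₂.symm, hb₃.symm, by rw [one_smul]; exact e⟩
  · exact ⟨b, b₂, b₃, -1, U, Or.inr rfl, hb₂.symm, hb₃.symm, by rw [e]; simp⟩
  · exfalso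
    have := h.inW.ip_eq b₃ b
    rw [e, ← hb₂, hV2.norm, ip_comm, o13] at this
    omega
  · exfalso
    have := h.inW.ip_eq b₃ b
    rw [e, ← hb₂, ip_neg_left, hV2.norm, ip_comm, o13] at this
    omega
  · exfalso
    have := h.inW.ip_eq b₃ b₂
    rw [e, ← hb₃, hV3.norm, ip_comm, o23] at this
    omega
  · exfalso
    have := h.inW.ip_eq b₃ b₂
    rw [e, ← hb₃, ip_neg_left, hV3.norm, ip_comm, o23] at this
    omega

end CfsgLib.Known.E7Torus
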