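import Cfsg.Agent.Lib.Known.E7Torus.Scalars
import Cfsg.Agent.Lib.Lie.Rel.Inst

/-!
# Reversing the orientation of a permuted triple of orthogonal roots
-/

set_option autoImplicit false
set_option maxHeartbeats 1600000

namespace CfsgLib.Known.E7Torus

open Cfsg.Lie (ChevalleyDatum chevE7)
open CfsgLib.Lie.Chev
open CfsgLib.Known.CyclicTorus (wMat)
open CfsgLib.Known.Homocyclic (vE7)
open scoped MatrixGroups Matrix

theorem commTerms_of_orth (s t : Fin 126) (h : ip (vE7 s) (vE7 t) = 0) :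
    chevE7.commTerms (s : ℕ) (t : ℕ) = [] := by
  refine List.eq_nil_iff_forall_not_mem.2 fun c hc => ?_
  obtain ⟨hlt, h1, h2, -, hcoef⟩ := certE7.commTerms_props s.2 t.2 c hc
  have e : vE7 c.1 = (c.2.2.1 : ℤ) • vE7 (s : ℕ) + (c.2.2.2 : ℤ) • vE7 (t : ℕ) := funext fun j => by
    simp only [Pi.add_apply, Pi.smul_apply, smul_eq_mul]
    exact hcoef j j.2
  have hn := ip_self_root ⟨c.1, hlt⟩
  simp only [e, ip_add_left, ip_add_right, ip_smul_left, ip_smul_right, ip_self_root, h,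
    ip_comm (vE7 (t : ℕ)) (vE7 (s : ℕ))] at hn
  nlinarith

section

variable {K : Type*} [Field K]

theorem scal_scal (l l' : Kˣ) (A : SL(2, K)) : scal l (scal l' A) = scal (l * l') A := by
  apply Subtype.ext
  ext i j
  fin_cases i <;> fin_cases j <;> simp [scal, mul_assoc, div_div, mul_comm]

theorem mapSL_scal (f : K →+* K) (l : Kˣ) (A : SL(2, K)) :
    mapSL f (scal l A) = scal (Units.map (f : K →* K) l) (mapSL f A) := by
  apply Subtype.ext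
  show (!![A.1 0 0, (l : K) * A.1 0 1; A.1 1 0 / (l : K), A.1 1 1] : Matrix (Fin 2) (Fin 2) K).map f =
    !![f (A.1 0 0), f (l : K) * f (A.1 0 1); f (A.1 1 0) / f (l : K), f (A.1 1 1)]
  ext i j
  fin_cases i <;> fin_cases j <;> simp [map_div₀]

theorem mapSL_comp (f g : K →+* K) (A : SL(2, K)) : mapSL f (mapSL g A) = mapSL (f.comp g) A := by
  apply Subtype.ext
  ext i j
  simp [mapSL]

end

/-- The new element and monomial. -/
theorem exists_flip {K : Type*} [Field K] [Fintype K] {q : ℕ} (hq : 2 ≤ q) (hK : Fintype.card K = q ^ 12)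
    (σ : K ≃+* K) (hσ : ∀ a, σ a = a ^ q) {β₁ β₂ β₃ : Fin chevE7.nroots}
    (m : (stRel certE7 K witE7).NS) (Y : chevE7.SteinbergGroup K)
    (hY : ScTorus.stMap certE7 witE7 σ.toRingHom Y = m * Y)
    (h1 : (stRel certE7 K witE7).nsPerm m β₁ = β₂) (h2 : (stRel certE7 K witE7).nsPerm m β₂ = β₃)
    (h3 : (stRel certE7 K witE7).nsPerm m β₃ = β₁)
    (o₁₂ : ip (vE7 β₁) (vE7 β₂) = 0) (o₁₃ : ip (vE7 β₁) (vE7 β₃) = 0) (o₂₃ : ip (vE7 β₂) (vE7 β₃) = 0) :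
    ∃ (Y' : chevE7.SteinbergGroup K) (d : Kˣ),
      ScTorus.stMap certE7 witE7 σ.toRingHom Y' = (stRel certE7 K witE7).ne β₁ (d : K) * m * Y' := by
  classical
  obtain ⟨R, hR⟩ : ∃ R, R = stRel certE7 K witE7 := ⟨_, rfl⟩
  obtain ⟨φ, hφ⟩ : ∃ φ, φ = ScTorus.stMap certE7 witE7 σ.toRingHom := ⟨_, rfl⟩
  subst hR
  rw [← hφ] at hY
  obtain ⟨π, hπ⟩ : ∃ π, π = (stRel certE7 K witE7).nsPerm m := ⟨_, rfl⟩
  obtain ⟨a, ha⟩ := (stRel certE7 K witE7).isMon_nsPerm m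
  rw [← hπ] at ha h1 h2 h3
  obtain ⟨l, hl⟩ : ∃ l : Fin chevE7.nroots → Kˣ, ∀ s, (l s : K) = a s :=
    ⟨fun s => Units.mk0 _ (ha s).1, fun _ => rfl⟩
  obtain ⟨Φ, hΦ⟩ : ∃ Φ : Kˣ →* Kˣ, ∀ x, Φ x = x ^ q := ⟨powMonoidHom q, fun _ => rfl⟩
  have hσu : ∀ x : Kˣ, Units.map (σ.toRingHom : K →* K) x = Φ x := fun x => Units.ext (by
    rw [hΦ, Units.val_pow_eq_pow_val]; exact hσ x)
  -- the composite over twelve steps
  have hiter : ∀ k : ℕ, (stRel certE7 K witE7).IsMon (φ^[k] m) π fun s => ((Φ^[k] (l s) : Kˣ) : K) := by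
    intro k
    induction k with
    | zero =>
      refine (congrArg ((stRel certE7 K witE7).IsMon _ π) (funext fun s => ?_)).mpr ha
      exact hl s
    | succ k ih =>
      rw [Function.iterate_succ_apply', hφ]
      refine (congrArg ((stRel certE7 K witE7).IsMon _ π) (funext fun s => ?_)).mpr
        (isMon_stMap certE7 witE7 σ (hφ ▸ ih))
      rw [Function.iterate_succ_apply', hΦ, Units.val_pow_eq_pow_val, hσ]
  obtain ⟨ε, hε⟩ : ∃ ε : ℕ → Kˣ, ε 0 = 1 ∧ ∀ k, ε (k + 1) = Φ^[k] (l ((π ^ k) β₁)) * ε k :=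
    ⟨fun k => Nat.rec 1 (fun j e => Φ^[j] (l ((π ^ j) β₁)) * e) k, rfl, fun _ => rfl⟩
  have hG : ∀ k : ℕ, (φ^[k] Y * Y⁻¹) * (stRel certE7 K witE7).xe β₁ 1 * (φ^[k] Y * Y⁻¹)⁻¹ =
      (stRel certE7 K witE7).xe ((π ^ k) β₁ : Fin chevE7.nroots) ((ε k : Kˣ) : K) := by
    intro k
    induction k with
    | zero => simp [hε.1]
    | succ k ih =>
      have e : φ^[k + 1] Y * Y⁻¹ = φ^[k] (m : chevE7.SteinbergGroup K) * (φ^[k] Y * Y⁻¹) := by
        rw [Function.iterate_succ_apply, hY, iterate_map_mul, mul_assoc]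
      rw [e]
      have e2 : ∀ g h x : chevE7.SteinbergGroup K, g * h * x * (g * h)⁻¹ = g * (h * x * h⁻¹) * g⁻¹ :=
        fun g h x => by group
      rw [e2, ih, (hiter k _).2.2.2, pow_succ', Equiv.Perm.mul_apply, hε.2, Units.val_mul]
  have hperiod : φ^[12] Y = Y := by
    have hid : ∀ (k : ℕ) (g : chevE7.SteinbergGroup K), φ^[k] g =
        ScTorus.stMap certE7 witE7 ((σ ^ k : K ≃+* K)).toRingHom g := by
      intro k
      induction k with
      | zero =>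
        intro g
        have : ScTorus.stMap certE7 witE7 (RingHom.id K) = MonoidHom.id _ := by
          refine MonoidHom.eq_of_eqOn_dense (stRel certE7 K witE7).gen ?_
          rintro _ ⟨r, t, rfl⟩
          exact ScTorus.stMap_gen certE7 witE7 _ r t
        rw [Function.iterate_zero, pow_zero]
        exact (DFunLike.congr_fun this g).symm
      | succ k ih =>
        intro g
        rw [Function.iterate_succ_apply', ih, hφ, ScTorus.stMap_comp]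
        refine congrArg (fun j => ScTorus.stMap certE7 witE7 j g) (RingHom.ext fun x => ?_)
        rw [pow_succ']
        rfl
    rw [hid]
    have : ((σ ^ 12 : K ≃+* K)).toRingHom = RingHom.id K := RingHom.ext fun x => by
      have hk : ∀ k, (σ ^ k : K ≃+* K) x = x ^ q ^ k := fun k => by
        induction k with
        | zero => simp
        | succ k ih => rw [pow_succ', RingAut.mul_apply, ih, hσ, ← pow_mul, pow_succ]
      show (σ ^ 12 : K ≃+* K) x = x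
      rw [hk, ← hK, FiniteField.pow_card]
    rw [this]
    have h0 := hid 0 Y
    rw [Function.iterate_zero, pow_zero] at h0
    exact h0.symm
  have hp3 : (π ^ 3) β₁ = β₁ := by
    rw [show (3 : ℕ) = 1 + 1 + 1 from rfl, pow_succ', pow_succ', pow_one]
    simp only [Equiv.Perm.mul_apply, h1, h2, h3]
  have hk3 : ∀ j i : ℕ, (π ^ (3 * j + i)) β₁ = (π ^ i) β₁ := by
    intro j
    induction j with
    | zero => simp
    | succ j ih =>
      intro i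
      rw [show 3 * (j + 1) + i = (3 * j + i) + 3 by ring, pow_add, Equiv.Perm.mul_apply, hp3, ih]
  have hε12 : ε 12 = 1 := by
    have h := hG 12
    rw [hperiod, mul_inv_cancel, one_mul, inv_one, mul_one, show (π ^ 12) β₁ = β₁ by
      rw [show (12 : ℕ) = 3 * 4 + 0 from rfl, hk3, pow_zero, Equiv.Perm.one_apply]] at h
    exact Units.ext ((stRel certE7 K witE7).xe_inj_param h).symm
  have e1 : (π ^ 1) β₁ = β₂ := by rw [pow_one, h1]
  have e2 : (π ^ 2) β₁ = β₃ := by rw [pow_succ', pow_one, Equiv.Perm.mul_apply, h1, h2]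
  have hΦk : ∀ (k : ℕ) (x : Kˣ), Φ^[k] x = x ^ q ^ k := by
    intro k
    induction k with
    | zero => intro x; simp
    | succ k ih => intro x; rw [Function.iterate_succ_apply', hΦ, ih, ← pow_mul, pow_succ]
  obtain ⟨c0, hc0⟩ : ∃ c0 : Kˣ, c0 = l β₃ * l β₂ ^ q ^ 11 * l β₁ ^ q ^ 10 := ⟨_, rfl⟩
  have hx12 : ∀ x : Kˣ, x ^ q ^ 12 = x := fun x => Units.ext (by
    rw [Units.val_pow_eq_pow_val, ← hK, FiniteField.pow_card])
  have hprod : ε 12 = (l β₁ * l β₂ ^ q * l β₃ ^ q ^ 2) * (l β₁ * l β₂ ^ q * l β₃ ^ q ^ 2) ^ q ^ 3 *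
      (l β₁ * l β₂ ^ q * l β₃ ^ q ^ 2) ^ q ^ 6 * (l β₁ * l β₂ ^ q * l β₃ ^ q ^ 2) ^ q ^ 9 := by
    have k0 : ∀ j, (π ^ (3 * j + 0)) β₁ = β₁ := fun j => by rw [hk3, pow_zero, Equiv.Perm.one_apply]
    have k1 : ∀ j, (π ^ (3 * j + 1)) β₁ = β₂ := fun j => by rw [hk3, e1]
    have k2 : ∀ j, (π ^ (3 * j + 2)) β₁ = β₃ := fun j => by rw [hk3, e2]
    simp only [hε.2, hε.1, hΦk, k0 0, k0 1, k0 2, k0 3, k1 0, k1 1, k1 2, k1 3, k2 0, k2 1, k2 2, k2 3,
      show (3 : ℕ) * 0 + 1 = 1 from rfl] at *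
    simp only [mul_pow, ← pow_mul, pow_zero, pow_one, mul_one, ← pow_add, ← pow_succ']
    ac_rfl
  have hc0q : c0 ^ q ^ 2 = l β₁ * l β₂ ^ q * l β₃ ^ q ^ 2 := by
    rw [hc0, mul_pow, mul_pow, ← pow_mul, ← pow_mul, ← pow_add, ← pow_add,
      show q ^ (11 + 2) = q ^ 12 * q by rw [← pow_succ], show 10 + 2 = 12 from rfl, pow_mul, hx12, hx12]
    simp only [mul_comm, mul_left_comm, mul_assoc]
  have hnorm : c0 * c0 ^ q ^ 3 * c0 ^ (q ^ 3) ^ 2 * c0 ^ (q ^ 3) ^ 3 = 1 := by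
    have h : (c0 * c0 ^ q ^ 3 * c0 ^ (q ^ 3) ^ 2 * c0 ^ (q ^ 3) ^ 3) ^ q ^ 2 = 1 := by
      rw [mul_pow, mul_pow, mul_pow, pow_right_comm c0 (q ^ 3), pow_right_comm c0 ((q ^ 3) ^ 2),
        pow_right_comm c0 ((q ^ 3) ^ 3), hc0q, ← pow_mul q 3 2, ← pow_mul q 3 3, ← hprod]
      exact hε12
    have h' := congrArg (fun x : Kˣ => x ^ q ^ 10) h
    rwa [one_pow, ← pow_mul, ← pow_add, show 2 + 10 = 12 from rfl, hx12] at h'
  obtain ⟨f, hf⟩ : ∃ f : K →+* K, ∀ x, f x = x ^ q ^ 3 := ⟨(σ.toRingHom.comp σ.toRingHom).comp σ.toRingHom, fun x => by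
    show σ (σ (σ x)) = _
    rw [hσ, hσ, hσ, ← pow_mul, ← pow_mul]
    ring⟩
  obtain ⟨d, N, A, hN, hA⟩ := exists_twisted (Q := q ^ 3) (Nat.le_trans hq (Nat.le_self_pow (by norm_num) q))
    (by rw [hK, ← pow_mul]) hf hnorm
  obtain ⟨S, hS⟩ : ∃ S : Fin chevE7.nroots → SL(2, K) →* chevE7.SteinbergGroup K,
      ∀ s, S s = (stRel certE7 K witE7).slHom s := ⟨_, fun _ => rfl⟩
  obtain ⟨ρ, hρ⟩ : ∃ ρ : SL(2, K) → SL(2, K), ρ = mapSL σ.toRingHom := ⟨_, rfl⟩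
  obtain ⟨g2, hg2⟩ : ∃ g2, g2 = scal (l β₁ ^ q ^ 11) (ρ A) := ⟨_, rfl⟩
  obtain ⟨g3, hg3⟩ : ∃ g3, g3 = scal (l β₂ ^ q ^ 11 * l β₁ ^ q ^ 10) A := ⟨_, rfl⟩
  obtain ⟨g1, hg1⟩ : ∃ g1, g1 = ρ (ρ A) := ⟨_, rfl⟩
  have hmapu : ∀ (x : Kˣ) (k : ℕ), Units.map (σ.toRingHom : K →* K) (x ^ q ^ k) = x ^ q ^ (k + 1) := fun x k => by
    rw [hσu, hΦ, ← pow_mul, pow_succ]
  have r2 : ρ g2 = scal (l β₁) g1 := by rw [hg2, hg1, hρ, mapSL_scal, hmapu, hx12]
  have r3 : ρ g3 = scal (l β₂) g2 := by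
    rw [hg3, hg2, hρ, mapSL_scal, map_mul, hmapu, hmapu, hx12, scal_scal]
  have r1 : ρ g1 = N * scal (l β₃) g3 := by
    rw [hg3, scal_scal, ← mul_assoc, ← hc0, ← hA, hg1, hρ, mapSL_comp, mapSL_comp]
    refine congrArg (fun j => mapSL j A) (RingHom.ext fun x => ?_)
    show σ (σ (σ x)) = f x
    rw [hf, hσ, hσ, hσ, ← pow_mul, ← pow_mul]
    ring
  have hcomm : ∀ {s t : Fin chevE7.nroots}, ip (vE7 s) (vE7 t) = 0 → ∀ A B, Commute (S s A) (S t B) := by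
    intro s t hst A B
    rw [hS, hS]
    have hneg : ∀ u : Fin chevE7.nroots,
        vE7 ((stRel certE7 K witE7).negF u : ℕ) = -vE7 (u : ℕ) := fun u =>
      CyclicTorus.cvec_negF (stRel certE7 K witE7) u
    have hself : ∀ u : Fin chevE7.nroots, ip (vE7 u) (vE7 u) = 2 := fun u => ip_self_root u
    have hc : ∀ {s t : Fin chevE7.nroots}, ip (vE7 s) (vE7 t) = 0 → ∀ x y,
        Commute ((stRel certE7 K witE7).xe s x) ((stRel certE7 K witE7).xe t y) := by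
      intro s t hst x y
      refine xe_commute _ (fun e => ?_) (fun e => ?_) (commTerms_of_orth s t hst) x y
      · rw [e, hself] at hst; omega
      · rw [e, hneg, ip_neg_right, hself] at hst; omega
    exact slHom_commute _ (hc hst) (hc (by rw [hneg, ip_neg_right, hst, neg_zero]))
      (hc (by rw [hneg, ip_neg_left, hst, neg_zero]))
      (hc (by rw [hneg, hneg, ip_neg_left, ip_neg_right, hst, neg_zero, neg_zero])) A B
  have hconj : ∀ (s : Fin chevE7.nroots) (B : SL(2, K)), (m : chevE7.SteinbergGroup K) * S s B * (m : chevE7.SteinbergGroup K)⁻¹ =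
      S (π s) (scal (l s) B) := fun s B => by rw [hS, hS]; exact conj_slHom _ ha s _ (hl s) B
  have hφS : ∀ (s : Fin chevE7.nroots) (B : SL(2, K)), φ (S s B) = S s (ρ B) := fun s B => by
    rw [hS, hφ, hρ]; exact stMap_slHom certE7 witE7 _ s B
  have hn : S β₁ N = (stRel certE7 K witE7).ne β₁ (d : K) := by
    rw [hS, slMap_ne _ β₁ hN (neg_ne_zero.2 (inv_ne_zero d.ne_zero)), inv_neg, inv_inv, neg_neg]
  refine ⟨S β₁ g1 * S β₂ g2 * S β₃ g3 * Y, d, ?_⟩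
  rw [← hφ, ← hn, map_mul, hY]
  obtain ⟨Z, hZ⟩ : ∃ Z, Z = S β₁ g1 * S β₂ g2 * S β₃ g3 := ⟨_, rfl⟩
  rw [← hZ]
  suffices hh : φ Z = S β₁ N * ((m : chevE7.SteinbergGroup K) * Z * (m : chevE7.SteinbergGroup K)⁻¹) by
    rw [hh]; group
  rw [hZ, map_mul, map_mul, hφS, hφS, hφS, r1, r2, r3, map_mul]
  have e : (m : chevE7.SteinbergGroup K) * (S β₁ g1 * S β₂ g2 * S β₃ g3) * (m : chevE7.SteinbergGroup K)⁻¹ =
      S β₂ (scal (l β₁) g1) * S β₃ (scal (l β₂) g2) * S β₁ (scal (l β₃) g3) := by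
    rw [← conj_mul, ← conj_mul, hconj, hconj, hconj, h1, h2, h3]
  rw [e]
  have o₃₁ : ip (vE7 β₃) (vE7 β₁) = 0 := by rw [ip_comm]; exact o₁₃
  have o₂₁ : ip (vE7 β₂) (vE7 β₁) = 0 := by rw [ip_comm]; exact o₁₂
  have hX : S β₂ (scal (l β₁) g1) * S β₃ (scal (l β₂) g2) * S β₁ (scal (l β₃) g3) =
      S β₁ (scal (l β₃) g3) * (S β₂ (scal (l β₁) g1) * S β₃ (scal (l β₂) g2)) :=
    (((hcomm o₂₁) _ _).mul_left ((hcomm o₃₁) _ _)).eq
  rw [hX]
  simp only [mul_assoc]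

end CfsgLib.Known.E7Torus
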