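import Cfsg.Agent.Lib.Known.Homocyclic.Types
import Cfsg.Agent.Lib.Known.CyclicTorus.Weyl

/-!
# The form of the root lattice of `E₇` and its Weyl group as a group of matrices
-/

set_option autoImplicit false
set_option maxRecDepth 4000

namespace CfsgLib.Known.E7Torus

open Cfsg.Lie (ChevalleyDatum chevE7)
open CfsgLib.Lie.Chev
open CfsgLib.Known.CyclicTorus (cvec wMat)
open CfsgLib.Known.Homocyclic (bE7 vE7)
open scoped Matrix

/-- The form. -/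
def ip (x y : Fin 7 → ℤ) : ℤ := (x ᵥ* bE7) ⬝ᵥ y

theorem ip_expand (x y : Fin 7 → ℤ) : ip x y =
    2 * (x 0 * y 0 + x 1 * y 1 + x 2 * y 2 + x 3 * y 3 + x 4 * y 4 + x 5 * y 5 + x 6 * y 6)
      - x 0 * y 2 - x 2 * y 0 - x 1 * y 3 - x 3 * y 1 - x 2 * y 3 - x 3 * y 2 - x 3 * y 4 - x 4 * y 3
      - x 4 * y 5 - x 5 * y 4 - x 5 * y 6 - x 6 * y 5 := by
  simp [ip, Homocyclic.vecMul_bE7, dotProduct, Fin.sum_univ_succ]
  ring

theorem ip_comm (x y : Fin 7 → ℤ) : ip x y = ip y x := by rw [ip_expand, ip_expand]; ring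

theorem ip_add_left (x y z : Fin 7 → ℤ) : ip (x + y) z = ip x z + ip y z := by
  rw [ip, Matrix.add_vecMul, add_dotProduct]; rfl

theorem ip_sub_left (x y z : Fin 7 → ℤ) : ip (x - y) z = ip x z - ip y z := by
  rw [ip, Matrix.sub_vecMul, sub_dotProduct]; rfl

theorem ip_neg_left (x z : Fin 7 → ℤ) : ip (-x) z = -ip x z := by
  rw [ip, Matrix.neg_vecMul, neg_dotProduct]; rfl

theorem ip_smul_left (c : ℤ) (x z : Fin 7 → ℤ) : ip (c • x) z = c * ip x z := by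
  rw [ip, Matrix.smul_vecMul, smul_dotProduct, smul_eq_mul]; rfl

theorem ip_add_right (x y z : Fin 7 → ℤ) : ip x (y + z) = ip x y + ip x z := by
  rw [ip, dotProduct_add]; rfl

theorem ip_sub_right (x y z : Fin 7 → ℤ) : ip x (y - z) = ip x y - ip x z := by
  rw [ip, dotProduct_sub]; rfl

theorem ip_neg_right (x z : Fin 7 → ℤ) : ip x (-z) = -ip x z := by
  rw [ip, dotProduct_neg]; rfl

theorem ip_smul_right (c : ℤ) (x z : Fin 7 → ℤ) : ip x (c • z) = c * ip x z := by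
  rw [ip, dotProduct_smul, smul_eq_mul]; rfl

theorem ip_zero_left (z : Fin 7 → ℤ) : ip 0 z = 0 := by simp [ip]

theorem ip_pos (x : Fin 7 → ℤ) : 0 ≤ ip x x ∧ (ip x x = 0 → x = 0) := by
  have e : 12 * ip x x = 6 * (2 * x 0 - x 2) ^ 2 + 2 * (3 * x 2 - 2 * x 3) ^ 2 + 6 * (2 * x 1 - x 3) ^ 2
      + 6 * (2 * x 6 - x 5) ^ 2 + 2 * (3 * x 5 - 2 * x 4) ^ 2 + (4 * x 4 - 3 * x 3) ^ 2 + x 3 ^ 2 := by
    rw [ip_expand]; ring
  have h0 := sq_nonneg (2 * x 0 - x 2)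
  have h1 := sq_nonneg (3 * x 2 - 2 * x 3)
  have h2 := sq_nonneg (2 * x 1 - x 3)
  have h3 := sq_nonneg (2 * x 6 - x 5)
  have h4 := sq_nonneg (3 * x 5 - 2 * x 4)
  have h5 := sq_nonneg (4 * x 4 - 3 * x 3)
  have h6 := sq_nonneg (x 3)
  refine ⟨by linarith, fun h => ?_⟩
  have a6 : x 3 = 0 := sq_eq_zero_iff.1 (by linarith)
  have a0 : 2 * x 0 - x 2 = 0 := sq_eq_zero_iff.1 (by linarith)
  have a1 : 3 * x 2 - 2 * x 3 = 0 := sq_eq_zero_iff.1 (by linarith)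
  have a2 : 2 * x 1 - x 3 = 0 := sq_eq_zero_iff.1 (by linarith)
  have a3 : 2 * x 6 - x 5 = 0 := sq_eq_zero_iff.1 (by linarith)
  have a4 : 3 * x 5 - 2 * x 4 = 0 := sq_eq_zero_iff.1 (by linarith)
  have a5 : 4 * x 4 - 3 * x 3 = 0 := sq_eq_zero_iff.1 (by linarith)
  funext i
  fin_cases i <;> simp <;> omega

theorem ip_even (x : Fin 7 → ℤ) : (2 : ℤ) ∣ ip x x :=
  ⟨x 0 * x 0 + x 1 * x 1 + x 2 * x 2 + x 3 * x 3 + x 4 * x 4 + x 5 * x 5 + x 6 * x 6 - x 0 * x 2 - x 1 * x 3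
    - x 2 * x 3 - x 3 * x 4 - x 4 * x 5 - x 5 * x 6, by rw [ip_expand]; ring⟩

theorem ip_self_root : ∀ s : Fin 126, ip (vE7 s) (vE7 s) = 2 := by decide +kernel

/-- Products of roots have absolute value at most two. -/
theorem ip_roots (s t : Fin 126) : -2 ≤ ip (vE7 s) (vE7 t) ∧ ip (vE7 s) (vE7 t) ≤ 2 := by
  have h1 := (ip_pos (vE7 s + vE7 t)).1
  have h2 := (ip_pos (vE7 s - vE7 t)).1
  simp only [ip_add_left, ip_add_right, ip_sub_left, ip_sub_right, ip_self_root, ip_comm (vE7 t) (vE7 s)] at h1 h2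
  omega

/-- Every root has a root with odd product. -/
theorem exists_odd : ∀ s : Fin 126, ∃ t : Fin 126, ip (vE7 t) (vE7 s) = 1 := by
  have h : ∀ s : Fin 126, ∃ i : Fin 7, (vE7 s ᵥ* bE7) i = 1 ∨ (vE7 s ᵥ* bE7) i = -1 := by decide +kernel
  have h' : ∀ i : Fin 7, ∃ t t' : Fin 126, vE7 t = Pi.single i 1 ∧ vE7 t' = -Pi.single i 1 := by decide +kernel
  intro s
  obtain ⟨i, hi⟩ := h s
  obtain ⟨t, t', ht, ht'⟩ := h' i
  have e : ip (vE7 t) (vE7 s) = (vE7 s ᵥ* bE7) i := by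
    rw [ip_comm, ip, ht, dotProduct_single, mul_one]
  rcases hi with hi | hi
  · exact ⟨t, e.trans hi⟩
  · refine ⟨t', ?_⟩
    rw [ht', ← ht, ip_neg_left, e, hi]; rfl

/-- The reflection in a vector of norm two. -/
def rfn (b : Fin 7 → ℤ) : Matrix (Fin 7) (Fin 7) ℤ := 1 - Matrix.vecMulVec (b ᵥ* bE7) b

theorem vecMul_rfn (b x : Fin 7 → ℤ) : x ᵥ* rfn b = x - ip x b • b := by
  rw [rfn, Matrix.vecMul_sub, Matrix.vecMul_one, Matrix.vecMul_vecMulVec, ip_comm x b, ip, dotProduct_comm x]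

theorem rfn_det {b : Fin 7 → ℤ} (h : ip b b = 2) : (rfn b).det = -1 := by
  rw [rfn, Matrix.vecMulVec_eq (ι := Unit), sub_eq_add_neg, ← Matrix.neg_mul, Matrix.det_one_add_mul_comm,
    Matrix.det_unique]
  have : (Matrix.replicateRow Unit b * -Matrix.replicateCol Unit (b ᵥ* bE7)) default default = -ip b b := by
    simp [Matrix.mul_apply, ip, dotProduct, mul_comm]
  simp only [Matrix.add_apply, Matrix.one_apply_eq, this, h]
  norm_num

theorem single_vecMul_apply (M : Matrix (Fin 7) (Fin 7) ℤ) (a b : Fin 7) :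
    ((Pi.single a 1 : Fin 7 → ℤ) ᵥ* M) b = M a b := by
  rw [Matrix.single_one_vecMul]; rfl

variable {F : Type*} [Field F] {G : Type*} [Group G] (R : Rel chevE7 auxE7 F G)

/-- A matrix of an element of the Weyl group. -/
def InW (M : Matrix (Fin 7) (Fin 7) ℤ) : Prop := ∃ g : R.NS, wMat R (R.nsPerm g) = M

variable {R}

theorem InW.mul {M N : Matrix (Fin 7) (Fin 7) ℤ} (hM : InW R M) (hN : InW R N) : InW R (M * N) := by
  obtain ⟨g, rfl⟩ := hM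
  obtain ⟨h, rfl⟩ := hN
  exact ⟨h * g, by rw [map_mul, CyclicTorus.wMat_mul R (R.isLin_nsPerm h)]; rfl⟩

theorem InW.one : InW R 1 := ⟨1, by rw [map_one]; exact CyclicTorus.wMat_one R⟩

theorem InW.pow {M : Matrix (Fin 7) (Fin 7) ℤ} (hM : InW R M) : ∀ k : ℕ, InW R (M ^ k)
  | 0 => by rw [pow_zero]; exact InW.one
  | k + 1 => by rw [pow_succ]; exact (InW.pow hM k).mul hM

theorem InW.roots {M : Matrix (Fin 7) (Fin 7) ℤ} (hM : InW R M) (s : Fin 126) :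
    ∃ s' : Fin 126, vE7 s ᵥ* M = vE7 s' := by
  obtain ⟨g, rfl⟩ := hM
  exact ⟨R.nsPerm g s, CyclicTorus.vecMul_wMat R (R.isLin_nsPerm g) s⟩

theorem InW.form {M : Matrix (Fin 7) (Fin 7) ℤ} (hM : InW R M) : M * bE7 * Mᵀ = bE7 := by
  obtain ⟨g, rfl⟩ := hM
  exact CyclicTorus.bil_invariant R Homocyclic.bilE7 g

theorem InW.ip_eq {M : Matrix (Fin 7) (Fin 7) ℤ} (hM : InW R M) (x y : Fin 7 → ℤ) :
    ip (x ᵥ* M) (y ᵥ* M) = ip x y := by
  show ((x ᵥ* M) ᵥ* bE7) ⬝ᵥ (y ᵥ* M) = (x ᵥ* bE7) ⬝ᵥ y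
  rw [← Matrix.mulVec_transpose M y, Matrix.dotProduct_mulVec, Matrix.vecMul_vecMul, Matrix.vecMul_vecMul,
    ← Matrix.mul_assoc, hM.form]

theorem InW.finite_order {M : Matrix (Fin 7) (Fin 7) ℤ} (hM : InW R M) : ∃ m, 0 < m ∧ M ^ m = 1 := by
  obtain ⟨g, rfl⟩ := hM
  exact ⟨_, orderOf_pos (R.nsPerm g), (CyclicTorus.wMat_pow R (R.isLin_nsPerm g) _).symm.trans
    (by rw [pow_orderOf_eq_one]; exact CyclicTorus.wMat_one R)⟩

theorem simple_rfn_pair : ∀ p : Fin 7 × Fin 7 × Fin 7,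
    auxE7.coef (p.2.2 : ℕ) (auxE7.w (p.1 : ℕ) (chevE7.simple (p.2.1 : ℕ))) =
      rfn (Pi.single p.1 (1 : ℤ)) p.2.1 p.2.2 := by decide +kernel

theorem simple_rfn (k i j : Fin 7) : auxE7.coef (j : ℕ) (auxE7.w (k : ℕ) (chevE7.simple (i : ℕ))) =
    rfn (Pi.single k (1 : ℤ)) i j := simple_rfn_pair (k, i, j)

theorem wMat_ne (s : Fin 126) {c : F} (hc : c ≠ 0) :
    wMat R (R.nsPerm ⟨R.ne (s : ℕ) c, R.ne_mem s hc⟩) = rfn (vE7 s) := by
  obtain ⟨g, hg, i, hi⟩ := R.exists_conj_simple s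
  obtain ⟨h, hh⟩ : ∃ h : R.NS, (h : G) = g := ⟨⟨g, R.Nw_le_NS hg⟩, rfl⟩
  have hperm : R.nsPerm h = R.monPerm g := by
    obtain ⟨a, ha⟩ := R.exists_isMon g
    exact R.nsPerm_eq (hh ▸ ha)
  obtain ⟨hb, hhb⟩ := R.exists_isMon g
  have hc' : (hb (R.sroot i))⁻¹ * c ≠ 0 := mul_ne_zero (inv_ne_zero (hhb (R.sroot i)).1) hc
  have he : R.nsPerm ⟨R.ne (s : ℕ) c, R.ne_mem s hc⟩ = R.nsPerm (h * R.nS i * h⁻¹) := by
    have h2 : R.nsPerm ⟨R.ne (chevE7.simple i) ((hb (R.sroot i))⁻¹ * c), R.ne_simple_mem_NS i hc'⟩ =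
        R.nsPerm (R.nS i) := by
      rw [R.nsPerm_nS]; exact R.nsPerm_eq (R.isMon_ne_simple i hc')
    rw [map_mul, map_mul, ← h2, ← map_mul, ← map_mul]
    refine congrArg _ (Subtype.ext ?_)
    have h3 := Rel.IsMon.conj_ne R hhb (R.sroot i) ((hb (R.sroot i))⁻¹ * c)
    rw [mul_inv_cancel_left₀ (hhb (R.sroot i)).1, hi] at h3
    simp only [Subgroup.coe_mul, Subgroup.coe_inv, hh]
    exact h3.symm
  rw [he]
  obtain ⟨W, hW⟩ : ∃ W : Matrix (Fin 7) (Fin 7) ℤ, W = wMat R (R.nsPerm h) := ⟨_, rfl⟩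
  obtain ⟨V, hV⟩ : ∃ V : Matrix (Fin 7) (Fin 7) ℤ, V = wMat R (R.nsPerm h⁻¹) := ⟨_, rfl⟩
  have hVW : V * W = 1 := by
    rw [hV, hW]
    exact (CyclicTorus.wMat_mul R (R.isLin_nsPerm h)).symm.trans
      (by rw [← map_mul, mul_inv_cancel, map_one]; exact CyclicTorus.wMat_one R)
  have hS : wMat R (R.nsPerm (R.nS i)) = rfn (Pi.single i 1) := by
    rw [R.nsPerm_nS]
    exact Matrix.ext fun a b => simple_rfn i a b
  rw [map_mul, map_mul, mul_assoc, CyclicTorus.wMat_mul R (R.isLin_nsPerm h),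
    CyclicTorus.wMat_mul R (R.isLin_nsPerm _), ← hW, ← hV, hS]
  have hroot : (Pi.single i 1 : Fin 7 → ℤ) ᵥ* W = vE7 s := by
    have h1 := CyclicTorus.vecMul_wMat R (R.isLin_nsPerm h) (R.sroot i)
    rw [CyclicTorus.cvec_sroot R, ← hW, hperm, hi] at h1
    exact h1
  suffices hx : ∀ x : Fin 7 → ℤ, x ᵥ* (V * rfn (Pi.single i 1) * W) = x ᵥ* rfn (vE7 s) by
    refine Matrix.ext fun a b => ?_
    have := congrFun (hx (Pi.single a 1)) b
    exact (single_vecMul_apply _ a b).symm.trans (this.trans (single_vecMul_apply _ a b))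
  intro x
  rw [← Matrix.vecMul_vecMul, ← Matrix.vecMul_vecMul, vecMul_rfn, vecMul_rfn, Matrix.sub_vecMul,
    Matrix.smul_vecMul, hroot, Matrix.vecMul_vecMul, hVW, Matrix.vecMul_one, ← InW.ip_eq (R := R) ⟨h, rfl⟩, ← hW,
    Matrix.vecMul_vecMul, hVW, Matrix.vecMul_one, hroot]

theorem InW.reflection (s : Fin 126) : InW R (rfn (vE7 s)) := ⟨_, wMat_ne s one_ne_zero⟩

/-- A word for the longest element. -/
def w0word : List (Fin 7) := (List.replicate 9 [0, 1, 2, 3, 4, 5, 6]).flatten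

theorem w0_neg : ∀ i j : Fin 7, auxE7.coef j (w0word.foldr (fun (k : Fin 7) (s : ℕ) => auxE7.w (k : ℕ) s) (chevE7.simple i)) =
    if i = j then -1 else 0 := by decide +kernel

theorem neg_one_apply (i j : Fin 7) :
    (if i = j then (-1 : ℤ) else 0) = (-1 : Matrix (Fin 7) (Fin 7) ℤ) i j := by
  by_cases h : i = j
  · subst h; rw [if_pos rfl, Matrix.neg_apply, Matrix.one_apply_eq]
  · rw [if_neg h, Matrix.neg_apply, Matrix.one_apply_ne h, neg_zero]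

theorem InW.neg_one : InW R (-1 : Matrix (Fin 7) (Fin 7) ℤ) := by
  refine ⟨(w0word.map R.nS).prod, Matrix.ext fun i j => ?_⟩
  have happ : ∀ l : List (Fin chevE7.rank), ∀ s : Fin chevE7.nroots, ((R.nsPerm (l.map R.nS).prod s : Fin chevE7.nroots) : ℕ) =
      l.foldr (fun (k : Fin chevE7.rank) (s : ℕ) => auxE7.w (k : ℕ) s) (s : ℕ) := by
    intro l
    induction l with
    | nil => intro s; rw [List.map_nil, List.prod_nil, map_one]; rfl
    | cons k l ih =>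
      intro s
      rw [List.map_cons, List.prod_cons, map_mul, Equiv.Perm.mul_apply, R.nsPerm_nS, List.foldr_cons, ← ih s]
      rfl
  show auxE7.coef (j : ℕ) ((R.nsPerm (w0word.map R.nS).prod (R.sroot i) : Fin 126) : ℕ) = _
  refine (congrArg (auxE7.coef (j : ℕ)) (happ w0word (R.sroot i))).trans ((w0_neg i j).trans ?_)
  exact neg_one_apply i j

/-- The stabiliser of a vector orthogonal to no root is trivial. -/
theorem InW.eq_one [Finite G] {M : Matrix (Fin 7) (Fin 7) ℤ} (hM : InW R M) (y : Fin 7 → ℤ)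
    (hy : ∀ s : Fin 126, ip y (vE7 s) ≠ 0) (hfix : y ᵥ* M = y) : M = 1 := by
  have hM' := hM
  obtain ⟨g, hg⟩ := hM
  have h := CyclicTorus.mem_HS_of_fix_functional R (y ᵥ* bE7) (fun s => ?_) g fun s => ?_
  · rw [← hg, R.nsPerm_of_mem_HS g h]
    exact CyclicTorus.wMat_one R
  · rw [dotProduct_comm]
    exact hy s
  · rw [← CyclicTorus.vecMul_wMat R (R.isLin_nsPerm g), hg, dotProduct_comm, dotProduct_comm (cvec _ _ _)]
    show ip y (vE7 s ᵥ* M) = ip y (vE7 s)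
    conv_lhs => rw [← hfix]
    exact hM'.ip_eq _ _

end CfsgLib.Known.E7Torus
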