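import Cfsg.Agent.Lib.Known.E7Torus.Cubic

/-!
# Roots orthogonal to an eigenvector of order twelve are fixed by the sixth power
-/

set_option autoImplicit false
set_option maxHeartbeats 800000

namespace CfsgLib.Known.E7Torus

open Cfsg.Lie (ChevalleyDatum chevE7)
open CfsgLib.Lie.Chev
open CfsgLib.Known.Homocyclic (bE7 vE7)
open scoped Matrix
open Polynomial

variable {r : ℕ} [Fact r.Prime] {F : Type*} [Field F] {G : Type*} [Group G] {R : Rel chevE7 auxE7 F G}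
  {W : Matrix (Fin 7) (Fin 7) ℤ} {a : Fin 7 → ZMod r} {z : ZMod r}

theorem Eig.annihilated (h : Eig R W a z) : (W ^ 4 - W ^ 2 + 1) * (W ^ 6 - 1) = 0 := by
  obtain ⟨m, hm, hWm⟩ := h.inW.finite_order
  have h0 := Homocyclic.aeval_eq_zero_of_dvd_pow hm hWm h.charpoly_dvd
  rw [ScTorus.cyclotomic_twelve] at h0
  simpa only [map_mul, map_add, map_sub, map_pow, aeval_X, map_one] using h0

theorem Eig.pow_twelve (h : Eig R W a z) : W ^ 12 = 1 := by
  have : W ^ 12 - 1 = (W ^ 4 - W ^ 2 + 1) * (W ^ 6 - 1) * (W ^ 2 + 1) := by noncomm_ring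
  rw [h.annihilated, zero_mul, sub_eq_zero] at this
  exact this

/-- The eigenspace is a line. -/
theorem Eig.exists_smul (h : Eig R W a z) {U : Fin 7 → ZMod r}
    (hU : U ᵥ* W.map (Int.cast : ℤ → ZMod r) = z • U) : ∃ t : ZMod r, U = t • a := by
  obtain ⟨b, -, hb7, hcard⟩ := ScTorus.card_left_eigen W (by norm_num) h.pow_twelve h.not_dvd h.not_dvd h.prim
  rw [show Nat.totient 12 = 4 from by decide] at hb7
  let g : ZMod r → {v : Fin 7 → ZMod r // v ᵥ* W.map (Int.cast : ℤ → ZMod r) = z • v} :=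
    fun t => ⟨t • a, by rw [Matrix.smul_vecMul, h.eig, smul_comm]⟩
  have hinj : Function.Injective g := fun t t' e => by
    obtain ⟨i, hi⟩ := Function.ne_iff.1 h.ne
    have h1 := congrFun (congrArg Subtype.val e) i
    simp only [g, Pi.smul_apply, smul_eq_mul] at h1
    exact mul_right_cancel₀ hi h1
  have hle : r ^ b ≤ r := (Nat.pow_le_pow_right (Fact.out : r.Prime).pos (by omega)).trans (pow_one r).le
  have hle2 : r ≤ r ^ b := by
    have := Nat.card_le_card_of_injective g hinj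
    rwa [Nat.card_zmod, hcard] at this
  have hbij : Function.Bijective g := (Nat.bijective_iff_injective_and_card g).2
    ⟨hinj, by rw [Nat.card_zmod, hcard]; exact le_antisymm hle2 hle⟩
  obtain ⟨t, ht⟩ := hbij.2 ⟨U, hU⟩
  exact ⟨t, (congrArg Subtype.val ht).symm⟩

theorem not_dvd_of_bounds {r : ℕ} (hr : r.Prime) (hr13 : 13 ≤ r) : ∀ e d : ℤ, 1 ≤ e → e ≤ 2 → -(2 * e) ≤ d →
    d ≤ 2 * e → ¬ (r : ℤ) ∣ 3 * (3 * e ^ 2 - d ^ 2) := by
  intro e d he he' hd hd' h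
  have h792 : 3 * (3 * e ^ 2 - d ^ 2) ∣ (792 : ℤ) := by
    interval_cases e <;> interval_cases d <;> norm_num
  have h2 := Int.natCast_dvd_natCast.1 (h.trans h792)
  have h3 : r ∣ 2 ^ 3 * 3 ^ 2 * 11 := h2
  rcases hr.dvd_mul.1 h3 with h4 | h4
  · rcases hr.dvd_mul.1 h4 with h5 | h5
    · exact absurd (Nat.le_of_dvd (by norm_num) (hr.dvd_of_dvd_pow h5)) (by omega)
    · exact absurd (Nat.le_of_dvd (by norm_num) (hr.dvd_of_dvd_pow h5)) (by omega)
  · exact absurd (Nat.le_of_dvd (by norm_num) h4) (by omega)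

/-- Roots orthogonal to the eigenvector are fixed by the sixth power. -/
theorem Eig.vanish_fixed (h : Eig R W a z) {s : Fin 126} (hs : pair a (vE7 s) = 0) :
    vE7 s ᵥ* W ^ 6 = vE7 s := by
  obtain ⟨v, hv⟩ : ∃ v, v = vE7 (s : ℕ) := ⟨_, rfl⟩
  rw [← hv] at hs ⊢
  have h12 := h.pow_twelve
  obtain ⟨c, hc⟩ : ∃ c : ℕ → ℤ, ∀ k, c k = ip (v ᵥ* W ^ k) v := ⟨_, fun _ => rfl⟩
  have hc0 : c 0 = 2 := by rw [hc, pow_zero, Matrix.vecMul_one, hv]; exact ip_self_root s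
  have hbd : ∀ k, -2 ≤ c k ∧ c k ≤ 2 := fun k => by
    obtain ⟨s', hs'⟩ := (h.inW.pow k).roots s
    rw [hc, hv, hs']
    exact ip_roots s' s
  have hsym : ∀ k, k ≤ 12 → c (12 - k) = c k := fun k hk => by
    rw [hc, hc, ← (h.inW.pow k).ip_eq, Matrix.vecMul_vecMul, ← pow_add, Nat.sub_add_cancel hk, h12, Matrix.vecMul_one,
      ip_comm]
  have s7 := hsym 5 (by norm_num); have s8 := hsym 4 (by norm_num); have s9 := hsym 3 (by norm_num)
  have s10 := hsym 2 (by norm_num); have s11 := hsym 1 (by norm_num)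
  norm_num at s7 s8 s9 s10 s11
  -- the first relation
  have hrel : (c 4 - c 10) - (c 2 - c 8) + (c 0 - c 6) = 0 := by
    have h0 := h.annihilated
    have e : v ᵥ* ((W ^ 4 - W ^ 2 + 1) * (W ^ 6 - 1)) = v ᵥ* W ^ 10 - v ᵥ* W ^ 8 + v ᵥ* W ^ 6 - v ᵥ* W ^ 4 +
        v ᵥ* W ^ 2 - v ᵥ* W ^ 0 := by
      simp only [← Matrix.vecMul_sub, ← Matrix.vecMul_add]
      congr 1
      noncomm_ring
    rw [h0, Matrix.vecMul_zero] at e
    have h1 := congrArg (fun u => ip u v) e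
    simp only [ip_sub_left, ip_add_left, ip_zero_left, ← hc] at h1
    linarith
  -- the second relation
  obtain ⟨d0, hd0⟩ : ∃ d, d = c 0 - c 6 := ⟨_, rfl⟩
  obtain ⟨d1, hd1⟩ : ∃ d, d = c 1 - c 5 := ⟨_, rfl⟩
  obtain ⟨e, he⟩ : ∃ d, d = c 2 - c 4 := ⟨_, rfl⟩
  have hde : d0 = 2 * e := by rw [hd0, he]; linarith [hrel, s8, s10]
  obtain ⟨x, hx⟩ : ∃ x, x = v - v ᵥ* W ^ 6 := ⟨_, rfl⟩
  have hcij : ∀ i j, i ≤ j → ip (v ᵥ* W ^ j) (v ᵥ* W ^ i) = c (j - i) := fun i j hij => by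
    rw [hc, show v ᵥ* W ^ j = (v ᵥ* W ^ (j - i)) ᵥ* W ^ i by
      rw [Matrix.vecMul_vecMul, ← pow_add, Nat.sub_add_cancel hij], (h.inW.pow i).ip_eq]
  have hxx : ip x x = 2 * d0 := by
    rw [hx, ip_sub_left, ip_sub_right, ip_sub_right, (h.inW.pow 6).ip_eq, ip_comm v (v ᵥ* W ^ 6), ← hc, hd0,
      hc 0, pow_zero, Matrix.vecMul_one]
    ring
  have hxW : ip (x ᵥ* W) x = 2 * d1 := by
    have e1 : x ᵥ* W = v ᵥ* W ^ 1 - v ᵥ* W ^ 7 := by
      rw [hx, Matrix.sub_vecMul, Matrix.vecMul_vecMul, ← pow_succ, pow_one]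
    rw [e1, hx, ip_sub_left, ip_sub_right, ip_sub_right, ip_comm (v ᵥ* W ^ 1) (v ᵥ* W ^ 6), hcij 1 6 (by norm_num),
      hcij 6 7 (by norm_num), ← hc 1, ← hc 7, s7, hd1]
    ring
  have hd1b : -(2 * e) ≤ d1 ∧ d1 ≤ 2 * e := by
    have p1 := (ip_pos (x ᵥ* W + x)).1
    have p2 := (ip_pos (x ᵥ* W - x)).1
    rw [ip_add_left, ip_add_right, ip_add_right, h.inW.ip_eq, ip_comm x (x ᵥ* W), hxW, hxx] at p1
    rw [ip_sub_left, ip_sub_right, ip_sub_right, h.inW.ip_eq, ip_comm x (x ᵥ* W), hxW, hxx] at p2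
    omega
  have hsum : ∑ k ∈ Finset.range 12, (z ^ 11) ^ k * ((c k : ℤ) : ZMod r) = 0 := by
    obtain ⟨w, hw⟩ : ∃ w : ZMod r, w = z ^ 11 := ⟨_, rfl⟩
    have hwz : z * w = 1 := by rw [hw, ← pow_succ', h.prim.pow_eq_one]
    have hw12 : w ^ 12 = 1 := by rw [hw, ← pow_mul, mul_comm, pow_mul, h.prim.pow_eq_one, one_pow]
    obtain ⟨T, hT⟩ : ∃ T : ℕ → Fin 7 → ZMod r, ∀ k, T k = w ^ k • cast7 r (v ᵥ* W ^ k) := ⟨_, fun _ => rfl⟩
    have hstep : ∀ k, T k ᵥ* W.map (Int.cast : ℤ → ZMod r) = z • T (k + 1) := by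
      intro k
      rw [hT, hT, Matrix.smul_vecMul, smul_smul, pow_succ' w, ← mul_assoc, hwz, one_mul]
      unfold cast7
      rw [← ScTorus.cast_vecMul, Matrix.vecMul_vecMul, ← pow_succ]
    have hlast : T 12 = T 0 := by rw [hT, hT, h12, hw12, pow_zero, pow_zero]
    obtain ⟨t, ht⟩ := h.exists_smul (U := ∑ k ∈ Finset.range 12, T k) (by
      rw [Matrix.sum_vecMul, Finset.smul_sum]
      simp only [hstep]
      have h0 := Finset.sum_range_succ' (fun k => z • T k) 12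
      rw [Finset.sum_range_succ, hlast] at h0
      exact (add_right_cancel h0).symm)
    have h1 := congrArg (fun U => pair U v) ht
    simp only [pair_sum, hT, pair_smul, pair_cast7, hs, mul_zero, ← hc] at h1
    rw [← hw]
    exact h1
  have he0 : e = 0 := by
    by_contra hne
    have hb6 := hbd 6
    have he1 : 1 ≤ e ∧ e ≤ 2 := by omega
    refine not_dvd_of_bounds (Fact.out : r.Prime) h.large e d1 he1.1 he1.2 hd1b.1 hd1b.2 ?_
    rw [← ZMod.intCast_zmod_eq_zero_iff_dvd]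
    obtain ⟨w, hw⟩ : ∃ w : ZMod r, w = z ^ 11 := ⟨_, rfl⟩
    rw [← hw] at hsum
    have hw4 : w ^ 4 = w ^ 2 - 1 := by
      have hne12 : NeZero ((12 : ℕ) : ZMod r) := ⟨fun h0 => h.not_dvd ((ZMod.natCast_eq_zero_iff _ _).1 h0)⟩
      have h2 := hw ▸ h.prim.pow_of_coprime 11 (by decide)
      rw [← Polynomial.isRoot_cyclotomic_iff, ← map_cyclotomic_int, IsRoot.def, eval_map, ScTorus.cyclotomic_twelve]
        at h2
      simp only [eval₂_add, eval₂_sub, eval₂_X_pow, eval₂_one] at h2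
      linear_combination h2
    have hlin : 3 * (e : ZMod r) + (d1 : ZMod r) * (2 * w - w ^ 3) = 0 := by
      have E0 : ((c 0 : ℤ) : ZMod r) - (c 6 : ZMod r) = 2 * (e : ZMod r) := by
        rw [← Int.cast_sub, ← hd0, hde]; push_cast; ring
      have E1 : ((c 1 : ℤ) : ZMod r) - (c 5 : ZMod r) = (d1 : ZMod r) := by rw [← Int.cast_sub, ← hd1]
      have E2 : ((c 2 : ℤ) : ZMod r) - (c 4 : ZMod r) = (e : ZMod r) := by rw [← Int.cast_sub, ← he]
      simp only [Finset.sum_range_succ, Finset.sum_range_zero, s7, s8, s9, s10, s11] at hsum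
      linear_combination hsum - E0 - (w - w ^ 5) * E1 - (w ^ 2 - w ^ 4) * E2
        + ((e : ZMod r) + w * (d1 : ZMod r) - (w ^ 2 + 1) * ((c 6 : ZMod r) + (c 5 : ZMod r) * w
          + (c 4 : ZMod r) * w ^ 2 + (c 3 : ZMod r) * w ^ 3 + (c 2 : ZMod r) * w ^ 4 + (c 1 : ZMod r) * w ^ 5)) * hw4
    have hsq : (2 * w - w ^ 3) ^ 2 = 3 := by linear_combination (w ^ 2 - 3) * hw4
    push_cast
    linear_combination (3 * (e : ZMod r) - (d1 : ZMod r) * (2 * w - w ^ 3)) * hlin + (d1 : ZMod r) ^ 2 * hsq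
  have hx0 : x = 0 := (ip_pos x).2 (by rw [hxx, hde, he0]; norm_num)
  rw [hx, sub_eq_zero] at hx0
  exact hx0.symm

end CfsgLib.Known.E7Torus
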