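import Cfsg.Agent.Lib.Known.E7Torus.Twist
import Cfsg.Agent.Lib.Known.PrimeGraphF4.Centraliser

/-!
# Two torus elements with a torus as centraliser
-/

set_option autoImplicit false

namespace CfsgLib.Known.E7Torus

open Cfsg.Lie (ChevalleyDatum chevE7)
open CfsgLib.Lie.Chev
open CfsgLib.Known.CyclicTorus (cvec wMat)
open CfsgLib.Known.Homocyclic (bE7 vE7)
open scoped Matrix

theorem fix_of_roots {r : ℕ} {a : Fin 7 → ZMod r} {M : Matrix (Fin 7) (Fin 7) ℤ}
    (h : ∀ s : Fin 126, pair a (vE7 s ᵥ* M) = pair a (vE7 s)) : Fixes a M := by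
  intro x
  have hx : x = ∑ i, x i • (Pi.single i 1 : Fin 7 → ℤ) := pi_eq_sum_univ' x
  have hlin : ∀ (y : Fin 7 → Fin 7 → ℤ), pair a (∑ i, x i • y i) = ∑ i, (x i : ZMod r) * pair a (y i) := by
    intro y
    have e : ∀ t : Finset (Fin 7), pair a (∑ i ∈ t, x i • y i) = ∑ i ∈ t, (x i : ZMod r) * pair a (y i) := by
      intro t
      induction t using Finset.induction_on with
      | empty => rw [Finset.sum_empty, Finset.sum_empty, pair_eq, ip, dotProduct_zero, Int.cast_zero]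
      | insert i t hi ih =>
        rw [Finset.sum_insert hi, Finset.sum_insert hi, ← ih, pair_eq, ip_add_right, Int.cast_add, ← pair_eq,
          ← pair_eq, pair_smul_right]
    exact e _
  rw [hx, Matrix.sum_vecMul]
  simp only [Matrix.smul_vecMul]
  rw [hlin, hlin]
  refine Finset.sum_congr rfl fun i _ => congrArg _ ?_
  obtain ⟨s, hs⟩ := Homocyclic.simpleE7 i
  rw [← hs]
  exact h s

/-- A functional vanishing at no root. -/
theorem regular_vector : ∀ s : Fin 126,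
    cvec chevE7 auxE7 (s : ℕ) ⬝ᵥ (fun i : Fin 7 => ([1, 10, 100, 1000, 10000, 100000, 1000000] : List ℤ).getD (i : ℕ) 0) ≠ 0 := by
  decide +kernel

variable {r : ℕ} [Fact r.Prime] {F : Type*} [Field F] {G : Type*} [Group G] {R : Rel chevE7 auxE7 F G}
  {W : Matrix (Fin 7) (Fin 7) ℤ} {a : Fin 7 → ZMod r} {z : ZMod r} [Finite G] {b₁ b₂ b₃ : Fin 7 → ℤ}

/-- The centraliser of the two elements lies in the torus. -/
theorem mem_HS_of_two (C : NegCycle R W a z b₁ b₂ b₃) {K : Type*} [Field K] {H : Type*} [Group H] [Finite H]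
    (S : Rel chevE7 auxE7 K H) (t : Bool → H) (α : Bool → Fin chevE7.nroots → K) (htH : ∀ i, t i ∈ S.HS)
    (ht : ∀ i, S.IsMon (t i) 1 (α i))
    (hA : ∀ s s' : Fin chevE7.nroots, α false s = α false s' → pair a (vE7 (s : ℕ)) = pair a (vE7 (s' : ℕ)))
    (hA1 : ∀ s : Fin chevE7.nroots, α false s = 1 → pair a (vE7 (s : ℕ)) = 0)
    (hB : ∀ s s' : Fin chevE7.nroots, Van a (vE7 (s : ℕ)) → Van a (vE7 (s' : ℕ)) → α true s = α true s' →
      vE7 (s : ℕ) = vE7 (s' : ℕ))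
    (hB1 : ∀ s : Fin chevE7.nroots, Van a (vE7 (s : ℕ)) → α true s ≠ 1)
    {g : H} (hg : ∀ i, g * t i = t i * g) : g ∈ S.HS := by
  refine PrimeGraphF4.mem_HS_of_commute S htH ht (fun s => ?_) (fun m hm => ?_) hg
  · by_cases h : α false s = 1
    · exact ⟨true, hB1 s ⟨⟨s, rfl⟩, hA1 s h⟩⟩
    · exact ⟨false, h⟩
  obtain ⟨M, hMdef⟩ : ∃ M : Matrix (Fin 7) (Fin 7) ℤ, M = wMat S (S.nsPerm m) := ⟨_, rfl⟩
  have hMW : InW S M := ⟨m, hMdef.symm⟩
  have himg : ∀ s : Fin chevE7.nroots, vE7 (s : ℕ) ᵥ* M = vE7 (S.nsPerm m s : ℕ) := fun s => by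
    rw [hMdef]; exact CyclicTorus.vecMul_wMat S (S.isLin_nsPerm m) s
  have hfix : Fixes a M := fix_of_roots fun s =>
    (congrArg (pair a) (himg s)).trans (hA _ _ (hm false s))
  have hvan : ∀ {b}, Van a b → b ᵥ* M = b := by
    rintro b ⟨⟨s, rfl⟩, hb⟩
    have hv : Van a (vE7 (S.nsPerm m s : ℕ)) := ⟨⟨_, rfl⟩,
      ((congrArg (pair a) (himg s)).symm.trans ((hfix _).trans hb))⟩
    exact (himg s).trans (hB _ _ hv ⟨⟨s, rfl⟩, hb⟩ (hm true s))
  obtain ⟨o₀, ho₀, hMo₀⟩ := hMW.finite_order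
  have hlarge := C.eig.large
  obtain ⟨o, ho, hMo, hro⟩ := ScTorus.exists_order_not_dvd (r := r) ho₀ hMo₀ (by omega)
  obtain ⟨T₁, T₂, T₃⟩ : Van a b₁ ∧ Van a b₂ ∧ Van a b₃ := ⟨C.triple.v₁, C.triple.v₂, C.triple.v₃⟩
  rcases hMW.eq_one_or_exists hMo hro hfix (b₁ + 5 • b₂ + 25 • b₃)
      (by simp only [Matrix.add_vecMul, Matrix.smul_vecMul, hvan T₁, hvan T₂, hvan T₃]) (fun s => by
        have := T₁.bound s; have := T₂.bound s; have := T₃.bound s
        simp only [ip_add_left, ← natCast_zsmul, ip_smul_left]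
        omega) with h1 | ⟨s, hs, hs'⟩
  · refine CyclicTorus.mem_HS_of_fix_functional S _ (fun s => regular_vector s) m fun s => ?_
    have h2 := himg s
    rw [h1, Matrix.vecMul_one] at h2
    exact congrArg (· ⬝ᵥ _) h2.symm
  · exfalso
    simp only [ip_add_left, ← natCast_zsmul, ip_smul_left] at hs'
    rcases C.triple.only C.eig (c := vE7 (s : ℕ)) ⟨⟨s, rfl⟩, hs⟩ with e | e | e | e | e | e <;>
      simp only [e, ip_neg_right, T₁.norm, T₂.norm, T₃.norm, C.triple.o₁₂, C.triple.o₁₃, C.triple.o₂₃,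
        ip_comm b₂ b₁, ip_comm b₃ b₁, ip_comm b₃ b₂] at hs' <;> norm_num at hs'

/-- The six numbers attached to the three roots are distinct. -/
theorem six_distinct {q : ℕ} (hq : 2 ≤ q) :
    ∀ i < 3, ∀ j < 3, ∀ s ∈ ([1, -1] : List ℤ), ∀ t ∈ ([1, -1] : List ℤ),
      ((q : ℤ) ^ 3 + 1) ∣ s * (2 * (q : ℤ) ^ i) - t * (2 * (q : ℤ) ^ j) → i = j ∧ s = t := by
  rcases le_or_gt q 3 with h | h
  · interval_cases q <;> decide +kernel
  intro i hi j hj s hs t ht hd
  have hq4 : (4 : ℤ) ≤ q := by exact_mod_cast h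
  have h0 : s * (2 * (q : ℤ) ^ i) - t * (2 * (q : ℤ) ^ j) = 0 := by
    refine Int.eq_zero_of_abs_lt_dvd hd ?_
    have b2 : 4 * (q : ℤ) ^ 2 ≤ (q : ℤ) ^ 3 := by nlinarith
    have hi2 : (q : ℤ) ^ i ≤ (q : ℤ) ^ 2 := pow_le_pow_right₀ (by linarith) (by omega)
    have hj2 : (q : ℤ) ^ j ≤ (q : ℤ) ^ 2 := pow_le_pow_right₀ (by linarith) (by omega)
    have p1 : 0 ≤ (q : ℤ) ^ i := by positivity
    have p2 : 0 ≤ (q : ℤ) ^ j := by positivity
    simp only [List.mem_cons, List.not_mem_nil, or_false] at hs ht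
    rw [abs_lt]
    rcases hs with rfl | rfl <;> rcases ht with rfl | rfl <;> constructor <;> linarith
  have p1 : 0 < (q : ℤ) ^ i := by positivity
  have p2 : 0 < (q : ℤ) ^ j := by positivity
  simp only [List.mem_cons, List.not_mem_nil, or_false] at hs ht
  rcases hs with rfl | rfl <;> rcases ht with rfl | rfl
  · exact ⟨Nat.pow_right_injective (show 2 ≤ q by omega) (by exact_mod_cast (by linarith : (q : ℤ) ^ i = (q : ℤ) ^ j)), rfl⟩
  · linarith
  · linarith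
  · exact ⟨Nat.pow_right_injective (show 2 ≤ q by omega) (by exact_mod_cast (by linarith : (q : ℤ) ^ i = (q : ℤ) ^ j)), rfl⟩

end CfsgLib.Known.E7Torus
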