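import Cfsg.Agent.Lib.Known.E7Torus.Setting
import Cfsg.Agent.Lib.Known.E7Torus.Flip
import Cfsg.Agent.Lib.Known.E7Torus.Regular
import Cfsg.Agent.Lib.Lie.OddInvolution.Descent
import Cfsg.Agent.Lib.Lie.Rel.StCenter

/-!
# A cyclic self-centralising torus of `E₇(q)`
-/

set_option autoImplicit false
set_option maxHeartbeats 3200000
set_option backward.isDefEq.respectTransparency false

namespace CfsgLib.Known.E7Torus

open Cfsg.Lie (ChevalleyDatum chevE7)
open CfsgLib.Lie.Chev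
open CfsgLib.Known.CyclicTorus (cvec wMat)
open CfsgLib.Known.Homocyclic (bE7 vE7)
open CfsgLib.Known.ScTorus (stMap stMap_comp stTheta_stMap stMap_injective stMap_torusHom leftKer mem_leftKer
  card_leftKer smul_cast exists_lift_eigen)
open scoped Matrix MatrixGroups
open Polynomial

theorem cartanE7 : ∀ i : Fin 7, ∀ s : Fin 126, chevE7.cartan (i : ℕ) (s : ℕ) = (vE7 s ᵥ* bE7) i := by
  decide +kernel

theorem two_cube : ∀ x : ZMod 2, x ^ 3 + 1 = 0 → x = 1 := by decide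

theorem slacedE7 : ScTorus.SLaced chevE7 auxE7 := by
  show ∀ i k j : Fin 7, auxE7.coef (j : ℕ) (auxE7.w (k : ℕ) (chevE7.simple (i : ℕ))) =
    (if i = j then 1 else 0) - (if k = j then chevE7.cartan (i : ℕ) (chevE7.simple (k : ℕ)) else 0)
  intro i k j
  exact (by decide +kernel : ∀ p : Fin 7 × Fin 7 × Fin 7,
    auxE7.coef (p.2.2 : ℕ) (auxE7.w (p.2.1 : ℕ) (chevE7.simple (p.1 : ℕ))) =
    (if p.1 = p.2.2 then 1 else 0) -
      (if p.2.1 = p.2.2 then chevE7.cartan (p.1 : ℕ) (chevE7.simple (p.2.1 : ℕ)) else 0)) (i, k, j)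

/-- The group `E₇(q)` has a cyclic self-centralising torus of order `(q⁴ - q² + 1)(q³ + 1)/(2, q - 1)`. -/
theorem exists_torus_e7 {F : Type*} [Field F] [Fintype F] (q : ℕ) (hF : Fintype.card F = q) :
    CyclicTorus.HasTorus chevE7 F ((q ^ 4 - q ^ 2 + 1) * (q ^ 3 + 1) / Nat.gcd 2 (q - 1)) := by
  classical
  have hq1 : 1 < q := hF ▸ Fintype.one_lt_card
  obtain ⟨Aq, hAq⟩ : ∃ Aq : ℕ, Aq = q ^ 4 - q ^ 2 + 1 := ⟨_, rfl⟩
  have hle : q ^ 2 ≤ q ^ 4 := Nat.pow_le_pow_right (by omega) (by norm_num)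
  have hAqZ : (Aq : ℤ) = (q : ℤ) ^ 4 - (q : ℤ) ^ 2 + 1 := by rw [hAq]; push_cast [Nat.cast_sub hle]; ring
  have hA1 : 1 < Aq := by
    have : q ^ 2 < q ^ 4 := Nat.pow_lt_pow_right hq1 (by norm_num)
    omega
  have hA23 : ∀ p : ℕ, p.Prime → (p : ℤ) ∣ (q : ℤ) ^ 4 - (q : ℤ) ^ 2 + 1 → p ≠ 2 ∧ p ≠ 3 := by
    intro p _ hpd
    refine ⟨?_, ?_⟩ <;> rintro rfl
    · have h := (ZMod.intCast_zmod_eq_zero_iff_dvd _ 2).2 hpd
      push_cast at h
      exact (by decide : ∀ x : ZMod 2, x ^ 4 - x ^ 2 + 1 ≠ 0) _ h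
    · have h := (ZMod.intCast_zmod_eq_zero_iff_dvd _ 3).2 hpd
      push_cast at h
      exact (by decide : ∀ x : ZMod 3, x ^ 4 - x ^ 2 + 1 ≠ 0) _ h
  obtain ⟨r, hr, hrA⟩ := Nat.exists_prime_and_dvd hA1.ne'
  have : Fact r.Prime := ⟨hr⟩
  have hrZ : (r : ℤ) ∣ (q : ℤ) ^ 4 - (q : ℤ) ^ 2 + 1 := hAqZ ▸ Int.natCast_dvd_natCast.2 hrA
  have hprim := ScTorus.primitive_twelve (hA23 r hr hrZ).1 (hA23 r hr hrZ).2 hrZ
  have hr13 : 13 ≤ r := by
    have h := ZMod.orderOf_dvd_card_sub_one (hprim.ne_zero (by norm_num))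
    rw [← hprim.eq_orderOf] at h
    have := Nat.le_of_dvd (by have := hr.two_le; omega) h
    omega
  obtain ⟨pc, hc⟩ := CharP.exists F
  have := hc
  obtain ⟨pa, hpc, hqp⟩ := FiniteField.card F pc
  have : Fact pc.Prime := ⟨hpc⟩
  let K := FiniteField.Extension F pc 12
  have : Finite K := Module.finite_of_finite F
  let : Fintype K := Fintype.ofFinite K
  have hK : Fintype.card K = q ^ 12 := by
    rw [← Nat.card_eq_fintype_card, ← hF, ← Nat.card_eq_fintype_card]; exact FiniteField.natCard_extension F pc 12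
  obtain ⟨σ, hσ⟩ : ∃ σ : K ≃+* K, ∀ a, σ a = a ^ q := by
    have : CharP K pc := charP_of_injective_algebraMap (algebraMap F K).injective pc
    have hb : Function.Bijective (iterateFrobenius K pc pa) :=
      Finite.injective_iff_bijective.1 (RingHom.injective _)
    exact ⟨RingEquiv.ofBijective _ hb, fun b => by
      rw [RingEquiv.ofBijective_apply, iterateFrobenius_def, ← hF, hqp]⟩
  obtain ⟨ι, hι⟩ : ∃ ι : F →+* K, ι = algebraMap F K := ⟨_, rfl⟩
  have hσι : ∀ c, σ (ι c) = ι c := fun c => by rw [hσ, ← map_pow, ← hF, FiniteField.pow_card]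
  have hj : ∀ a : K, σ a = a ↔ a ∈ ι.range := by
    refine fun a => ⟨fun ha => ?_, fun ⟨c, hc⟩ => hc ▸ hσι c⟩
    rcases eq_or_ne a 0 with rfl | ha0
    · exact zero_mem _
    · obtain ⟨c, hc⟩ := PSLTori.exists_algebraMap_eq (F := F) a (mul_right_cancel₀ ha0 (by
        rw [hF, ← pow_succ, Nat.sub_add_cancel hq1.le, ← hσ, ha, one_mul]))
      exact ⟨c, by rw [hι, hc]⟩
  obtain ⟨N, hN⟩ : ∃ N, N = Nat.card Kˣ := ⟨_, rfl⟩
  have hNQ : N = q ^ 12 - 1 := by rw [hN, Nat.card_units, Nat.card_eq_fintype_card, hK]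
  have hq12 : 1 ≤ q ^ 12 := Nat.one_le_pow _ _ (by omega)
  have : NeZero N := ⟨by have := Nat.one_lt_pow (show 12 ≠ 0 by norm_num) hq1; omega⟩
  obtain ⟨P, hPdef⟩ : ∃ P, P = (q ^ 4 - q ^ 2 + 1) * (q ^ 3 + 1) := ⟨_, rfl⟩
  have hPZ : (P : ℤ) = ((q : ℤ) ^ 4 - (q : ℤ) ^ 2 + 1) * ((q : ℤ) ^ 3 + 1) := by
    rw [hPdef, Nat.cast_mul, ← hAq, hAqZ]; push_cast; ring
  have hP0 : P ≠ 0 := by rw [hPdef]; positivity
  have hPN' : P ∣ N := by
    rw [hNQ, ← Int.natCast_dvd_natCast, Nat.cast_sub hq12, hPZ]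
    exact ⟨((q : ℤ) ^ 2 + 1) * ((q : ℤ) ^ 3 - 1), by push_cast; ring⟩
  have hMN : q ^ 3 + 1 ∣ N := (hPdef ▸ dvd_mul_left _ _ : q ^ 3 + 1 ∣ P).trans hPN'
  have hrN : r ∣ N := (hPdef ▸ hAq ▸ hrA.mul_right _ : r ∣ P).trans hPN'
  rw [← hPdef]
  obtain ⟨g, hgdef⟩ : ∃ g, g = Nat.gcd 2 (q - 1) := ⟨_, rfl⟩
  rw [← hgdef]
  have hgc : Nat.card (Subgroup.center (chevE7.SteinbergGroup F)) = g := by rw [card_center_E7, hF, hgdef]
  have hconn : Rel.Connected chevE7 := connected_of_chk (by decide +kernel)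
  have hE8 := chevRel_torusHom_injective certE8 K cmat_E8 smithE8 (by decide +kernel)
  have hinjK : Function.Injective (stRel certE7 K witE7).torusHom :=
    stRel_torusHom_injective (chevRel certE8 K) certE7 embE7E8 witE7 hE8
  obtain ⟨θ, hθ⟩ : ∃ θ, θ = stTheta (D := chevE7) certE7 K := ⟨_, rfl⟩
  obtain ⟨θF, hθF⟩ : ∃ θ, θ = stTheta (D := chevE7) certE7 F := ⟨_, rfl⟩
  obtain ⟨J, hJ⟩ : ∃ J, J = stMap certE7 witE7 ι := ⟨_, rfl⟩
  obtain ⟨φ, hφ⟩ : ∃ φ, φ = stMap certE7 witE7 σ.toRingHom := ⟨_, rfl⟩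
  have hJinj : Function.Injective J := hJ ▸ stMap_injective certE7 witE7 ι hinjK
  have hφJ : ∀ g, φ (J g) = J g := fun g => by
    rw [hφ, hJ, stMap_comp]
    exact congrArg (fun k => stMap certE7 witE7 k g) (RingHom.ext fun a => hσι a)
  have hθJ : ∀ g, θ (J g) = ChevFixed.groupMap chevE7 ι (θF g) := fun g => by
    rw [hθ, hθF, hJ]; exact stTheta_stMap certE7 witE7 ι g
  have hθker : ∀ g, θ g ∈ (chevRel certE7 K).HS → g ∈ (stRel certE7 K witE7).HS := by
    intro g hg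
    obtain ⟨c, hc⟩ := (chevRel certE7 K).torusHom_surjective ⟨θ g, hg⟩
    have h1 : θ g = θ ((stRel certE7 K witE7).torusHom c : chevE7.SteinbergGroup K) := by
      rw [hθ, stTheta_torusHom, hc, ← hθ]
    have h2 : g * (((stRel certE7 K witE7).torusHom c : chevE7.SteinbergGroup K))⁻¹ ∈ (stRel certE7 K witE7).HS :=
      (stRel certE7 K witE7).ker_le_HS (MonoidHom.mem_ker.1 (by
        rw [ker_stRel, MonoidHom.mem_ker, ← hθ, map_mul, map_inv, h1, mul_inv_cancel]))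
    have h3 := mul_mem h2 ((stRel certE7 K witE7).torusHom c).2
    rwa [inv_mul_cancel_right] at h3
  obtain ⟨lgE, -⟩ : ∃ e : Additive Kˣ ≃+ ZMod N, True :=
    ⟨hN ▸ (MulEquiv.toAdditive (zmodCyclicMulEquiv (G := Kˣ) inferInstance).symm).trans
      (AddEquiv.additiveMultiplicative _), trivial⟩
  obtain ⟨lg, hlg⟩ : ∃ lg : Kˣ → ZMod N, ∀ u, lg u = lgE (Additive.ofMul u) := ⟨_, fun _ => rfl⟩
  have hlg_mul : ∀ u w, lg (u * w) = lg u + lg w := fun u w => by rw [hlg, hlg, hlg, ofMul_mul, map_add]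
  have hlg_zpow : ∀ (u : Kˣ) (z : ℤ), lg (u ^ z) = (z : ZMod N) * lg u := fun u z => by
    rw [hlg, hlg, ofMul_zpow, map_zsmul, zsmul_eq_mul]
  have hlg_pow : ∀ (u : Kˣ) (z : ℕ), lg (u ^ z) = (z : ZMod N) * lg u := fun u z => by
    rw [← zpow_natCast, hlg_zpow, Int.cast_natCast]
  have hlg_prod : ∀ f : Fin chevE7.rank → Kˣ, lg (∏ i, f i) = ∑ i, lg (f i) := fun f => by
    rw [hlg, ofMul_prod, map_sum]
    exact Finset.sum_congr rfl fun i _ => (hlg _).symm
  have hlg_inj : Function.Injective lg := fun u w h => by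
    rw [hlg, hlg] at h
    exact Additive.ofMul.injective (lgE.injective h)
  have hlg_one : lg 1 = 0 := by rw [hlg, ofMul_one, map_zero]
  obtain ⟨co, hco⟩ : ∃ co : (Fin chevE7.rank → Kˣ) → Fin chevE7.rank → ZMod N, ∀ c i, co c i = lg (c i) :=
    ⟨_, fun _ _ => rfl⟩
  have hco_inj : Function.Injective co := fun c c' h => funext fun i => hlg_inj (by rw [← hco, ← hco, h])
  have hco_surj : Function.Surjective co := fun a => ⟨fun i => Additive.toMul (lgE.symm (a i)), funext fun i => by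
    rw [hco, hlg, ofMul_toMul, AddEquiv.apply_symm_apply]⟩
  have hco_mul : ∀ c c', co (c * c') = co c + co c' := fun c c' => funext fun i => by
    simp only [Pi.add_apply, hco, Pi.mul_apply, hlg_mul]
  have hco_pow : ∀ c (z : ℕ), co (c ^ z) = (z : ZMod N) • co c := fun c z => funext fun i => by
    simp only [Pi.smul_apply, smul_eq_mul, hco, Pi.pow_apply, hlg_pow]
  have hco_one : co 1 = 0 := funext fun i => by simp [hco, hlg_one]
  obtain ⟨T, hTdef⟩ : ∃ T : (Fin chevE7.rank → Kˣ) →* chevE7.SteinbergGroup K,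
      T = ((stRel certE7 K witE7).HS.subtype).comp (stRel certE7 K witE7).torusHom := ⟨_, rfl⟩
  have hTmem : ∀ c, T c ∈ (stRel certE7 K witE7).HS := fun c => by rw [hTdef]; exact SetLike.coe_mem _
  have hTsurj : ∀ g ∈ (stRel certE7 K witE7).HS, ∃ c, T c = g := fun g hg => by
    obtain ⟨c, hc⟩ := (stRel certE7 K witE7).torusHom_surjective ⟨g, hg⟩
    exact ⟨c, by rw [hTdef, MonoidHom.comp_apply, hc]; rfl⟩
  have hTinj : Function.Injective T := hTdef ▸ (Subgroup.subtype_injective _).comp hinjK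
  have hφT : ∀ c, φ (T c) = T (c ^ q) := fun c => by
    rw [hφ, hTdef, MonoidHom.comp_apply, MonoidHom.comp_apply]
    refine (stMap_torusHom certE7 witE7 σ.toRingHom c).trans ?_
    refine congrArg (fun c => (((stRel certE7 K witE7).torusHom c : (stRel certE7 K witE7).HS) : chevE7.SteinbergGroup K))
      (funext fun i => Units.ext ?_)
    simp [hσ]
  obtain ⟨Wof, hWof⟩ : ∃ Wof : (stRel certE7 K witE7).NS → Matrix (Fin chevE7.rank) (Fin chevE7.rank) ℤ,
      ∀ m, Wof m = wMat (stRel certE7 K witE7) ((stRel certE7 K witE7).nsPerm m) := ⟨_, fun _ => rfl⟩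
  have htw : ∀ (m : (stRel certE7 K witE7).NS) c,
      (m : chevE7.SteinbergGroup K) * T c * (m : chevE7.SteinbergGroup K)⁻¹ = φ (T c) ↔
      co c ᵥ* (Wof m).map (Int.cast : ℤ → ZMod N) = (q : ZMod N) • co c := by
    intro m c
    have h : (m : chevE7.SteinbergGroup K) * T c * (m : chevE7.SteinbergGroup K)⁻¹ = T (powMat Kˣ (Wof m) c) := by
      rw [hTdef, MonoidHom.comp_apply, MonoidHom.comp_apply, hWof]
      exact ScTorus.conj_torusHom (stRel certE7 K witE7) slacedE7 m c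
    rw [h, hφT, hTinj.eq_iff, ← hco_inj.eq_iff, hco_pow]
    refine Eq.congr_left (funext fun j => ?_)
    rw [hco, powMat_apply, hlg_prod]
    simp only [Matrix.vecMul, dotProduct, Matrix.map_apply, hlg_zpow, hco]
    exact Finset.sum_congr rfl fun i _ => mul_comm _ _
  obtain ⟨val, hval⟩ : ∃ val : (Fin chevE7.rank → Kˣ) → Fin chevE7.nroots → Kˣ,
      ∀ c s, val c s = ∏ i : Fin chevE7.rank, c i ^ chevE7.cartan i s := ⟨_, fun _ _ => rfl⟩
  have hlgval : ∀ (c : Fin chevE7.rank → Kˣ) (L : ℕ) (E : Fin 7 → ℤ),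
      (∀ i, co c i = ((L : ℤ) * E i : ℤ)) → ∀ s, lg (val c s) = (((L : ℤ) * ip E (vE7 (s : ℕ)) : ℤ) : ZMod N) := by
    intro c L E hcE s
    rw [hval, hlg_prod, ip_comm]
    simp only [hlg_zpow, ← hco, hcE, ip, dotProduct, Finset.mul_sum, Int.cast_sum]
    refine Finset.sum_congr rfl fun i _ => ?_
    rw [show chevE7.cartan (i : ℕ) (s : ℕ) = (vE7 (s : ℕ) ᵥ* bE7) i from cartanE7 i s]
    push_cast
    ring
  have : Finite (chevE7.SteinbergGroup K) := (stRel certE7 K witE7).Finite_of_field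
  -- the monomial element from `E₆`
  obtain ⟨Y₀, m₀, cs', hc1, hcr, hY₀, hm₀⟩ := exists_monomial_E7 (r := r) hF hK hr13 hrZ σ hσ
  rw [← hφ] at hY₀
  have hm₀' : (m₀ : chevE7.SteinbergGroup K) * T cs' * (m₀ : chevE7.SteinbergGroup K)⁻¹ = φ (T cs') := by
    rw [hTdef, hφ]; exact hm₀
  obtain ⟨e, he⟩ := hrN
  have e0 : 0 < e := Nat.pos_of_ne_zero fun h => by rw [h, mul_zero] at he; exact NeZero.ne N he
  obtain ⟨bn, hbn, hbeig⟩ := exists_lift_eigen hr.pos he (co cs') fun i => by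
    have h := congrFun (hco_pow cs' r) i
    rw [hcr, hco_one] at h
    simpa using h.symm
  obtain ⟨B, hB⟩ : ∃ B : Fin 7 → ℤ, ∀ i, B i = (bn i : ℤ) := ⟨_, fun _ => rfl⟩
  obtain ⟨a, ha⟩ : ∃ a : Fin 7 → ZMod r, a = cast7 r B := ⟨_, rfl⟩
  have hcoB : ∀ i, co cs' i = (((e : ℤ) * B i : ℤ) : ZMod N) := fun i => by rw [hbn i, hB i]; push_cast; rfl
  have ha' : a = fun i => (bn i : ZMod r) := by
    rw [ha]; funext i; simp [cast7, hB]
  have ha0 : a ≠ 0 := by
    intro h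
    refine hc1 (hco_inj ((funext fun i => ?_).trans hco_one.symm))
    obtain ⟨w, hw⟩ := (ZMod.natCast_eq_zero_iff _ _).1 (congrFun (ha'.symm.trans h) i)
    rw [hbn i, hw, ← mul_assoc, mul_comm e, ← he, Nat.cast_mul, ZMod.natCast_self, zero_mul, Pi.zero_apply]
  have hE : Eig (stRel certE7 K witE7) (Wof m₀) a (q : ZMod r) :=
    ⟨⟨m₀, (hWof m₀).symm⟩, ha0, by rw [ha']; exact hbeig _ _ ((htw m₀ cs').1 hm₀'), hprim, hr13⟩
  have hpair : ∀ s : Fin chevE7.nroots, pair a (vE7 (s : ℕ)) = ((ip B (vE7 (s : ℕ)) : ℤ) : ZMod r) := fun s => by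
    rw [ha, pair_cast7]
  have hv1 : ∀ s : Fin chevE7.nroots, val cs' s = 1 ↔ pair a (vE7 (s : ℕ)) = 0 := by
    intro s
    rw [hpair, ZMod.intCast_zmod_eq_zero_iff_dvd, ← hlg_inj.eq_iff, hlgval cs' e B hcoB, hlg_one,
      ZMod.intCast_zmod_eq_zero_iff_dvd, he, Nat.cast_mul, mul_comm (r : ℤ),
      mul_dvd_mul_iff_left (by exact_mod_cast e0.ne' : (e : ℤ) ≠ 0)]
  -- the correct orientation
  obtain ⟨Y, m, b₁, b₂, b₃, hY, hmc, hC⟩ : ∃ (Y : chevE7.SteinbergGroup K) (m : (stRel certE7 K witE7).NS)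
      (b₁ b₂ b₃ : Fin 7 → ℤ), φ Y = m * Y ∧
      (m : chevE7.SteinbergGroup K) * T cs' * (m : chevE7.SteinbergGroup K)⁻¹ = φ (T cs') ∧
      NegCycle (stRel certE7 K witE7) (Wof m) a (q : ZMod r) b₁ b₂ b₃ := by
    obtain ⟨b₁, b₂, b₃, hC | ⟨e₁, e₂, e₃, hC⟩⟩ := hE.exists_negCycle
    · exact ⟨Y₀, m₀, b₁, b₂, b₃, hY₀, hm₀', hC⟩
    obtain ⟨⟨β₁, hβ₁⟩, hv⟩ := hC.triple.v₁
    obtain ⟨⟨β₂, hβ₂⟩, -⟩ := hC.triple.v₂
    obtain ⟨⟨β₃, hβ₃⟩, -⟩ := hC.triple.v₃
    have hperm : ∀ (s t : Fin chevE7.nroots), vE7 (s : ℕ) ᵥ* Wof m₀ = vE7 (t : ℕ) →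
        (stRel certE7 K witE7).nsPerm m₀ s = t := fun s t h => by
      refine CfsgLib.Lie.OddInvolution.root_ext (stRel certE7 K witE7) fun j => ?_
      have h2 := CyclicTorus.vecMul_wMat (stRel certE7 K witE7) ((stRel certE7 K witE7).isLin_nsPerm m₀) s
      rw [← hWof] at h2
      exact congrFun (h2.symm.trans h) j
    obtain ⟨Y', d, hY'⟩ := exists_flip (q := q) hq1 hK σ hσ (β₁ := β₁) (β₂ := β₂) (β₃ := β₃) m₀ Y₀ (hφ ▸ hY₀)
      (hperm _ _ (by rw [← hβ₁, ← hβ₂]; exact e₁)) (hperm _ _ (by rw [← hβ₂, ← hβ₃]; exact e₂))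
      (hperm _ _ (by rw [← hβ₃, ← hβ₁]; exact e₃)) (hβ₁ ▸ hβ₂ ▸ hC.triple.o₁₂) (hβ₁ ▸ hβ₃ ▸ hC.triple.o₁₃)
      (hβ₂ ▸ hβ₃ ▸ hC.triple.o₂₃)
    obtain ⟨n₁, hn₁⟩ : ∃ n₁ : (stRel certE7 K witE7).NS,
        n₁ = ⟨(stRel certE7 K witE7).ne (β₁ : ℕ) (d : K), (stRel certE7 K witE7).ne_mem β₁ d.ne_zero⟩ := ⟨_, rfl⟩
    refine ⟨Y', n₁ * m₀, b₁, b₂, b₃, ?_, ?_, ?_⟩
    · rw [hn₁, Subgroup.coe_mul, hφ]; exact hY'
    · rw [Subgroup.coe_mul, mul_inv_rev]
      have h1 : Commute (φ (T cs')) (n₁ : chevE7.SteinbergGroup K) := by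
        rw [hφT, hn₁, hTdef, MonoidHom.comp_apply]
        obtain ⟨Nd, hNd⟩ : ∃ Nd : SL(2, K), Nd.1 = !![0, (d : K); -(d : K)⁻¹, 0] :=
          ⟨⟨!![0, (d : K); -(d : K)⁻¹, 0], by
            rw [Matrix.det_fin_two_of, zero_mul, zero_sub, mul_neg, neg_neg, mul_inv_cancel₀ d.ne_zero]⟩, rfl⟩
        have hne := slMap_ne (stRel certE7 K witE7) β₁ hNd (neg_ne_zero.2 (inv_ne_zero d.ne_zero))
        rw [inv_neg, inv_inv, neg_neg] at hne
        show Commute _ ((stRel certE7 K witE7).ne (β₁ : ℕ) (d : K))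
        rw [← hne]
        refine torus_commute_slHom _ (TrialityTorus.isMon_torusHom _ _) ?_ Nd
        show ((∏ i : Fin chevE7.rank, (cs' ^ q) i ^ chevE7.cartan i β₁ : Kˣ) : K) = 1
        have hq' : (∏ i : Fin chevE7.rank, (cs' ^ q) i ^ chevE7.cartan i β₁) = val cs' β₁ ^ q := by
          rw [hval, ← Finset.prod_pow]
          exact Finset.prod_congr rfl fun i _ => by
            rw [Pi.pow_apply, ← zpow_natCast (cs' i) q, ← zpow_mul, ← zpow_natCast (cs' i ^ chevE7.cartan i β₁) q,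
              ← zpow_mul, mul_comm]
        rw [hq', (hv1 β₁).2 (hβ₁ ▸ hv), one_pow, Units.val_one]
      calc (n₁ : chevE7.SteinbergGroup K) * m₀ * T cs' * ((m₀ : chevE7.SteinbergGroup K)⁻¹ * (n₁ : chevE7.SteinbergGroup K)⁻¹)
          = n₁ * ((m₀ : chevE7.SteinbergGroup K) * T cs' * (m₀ : chevE7.SteinbergGroup K)⁻¹) * (n₁ : chevE7.SteinbergGroup K)⁻¹ := by group
        _ = φ (T cs') := by rw [hm₀', ← h1.eq, mul_inv_cancel_right]
    · have hW : Wof (n₁ * m₀) = HMul.hMul (α := Matrix (Fin 7) (Fin 7) ℤ) (β := Matrix (Fin 7) (Fin 7) ℤ)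
          (γ := Matrix (Fin 7) (Fin 7) ℤ) (Wof m₀) (rfn b₁) := by
        rw [hWof, hWof, map_mul, hn₁, hβ₁, ← wMat_ne (R := stRel certE7 K witE7) β₁ d.ne_zero]
        exact CyclicTorus.wMat_mul _ ((stRel certE7 K witE7).isLin_nsPerm _)
      rw [hW]; exact hC
  obtain ⟨W, hW⟩ : ∃ W, W = Wof m := ⟨_, rfl⟩
  rw [← hW] at hC
  obtain ⟨A, hA⟩ : ∃ A, A = W - (q : ℤ) • (1 : Matrix (Fin chevE7.rank) (Fin chevE7.rank) ℤ) := ⟨_, rfl⟩
  have hcharp : W.charpoly = cyclotomic 12 ℤ * cyclotomic 6 ℤ * cyclotomic 2 ℤ := hC.charpoly_eq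
  have hevalP : ((cyclotomic 12 ℤ * cyclotomic 6 ℤ * cyclotomic 2 ℤ).eval (q : ℤ)).natAbs = P := by
    rw [eval_mul, eval_mul, ScTorus.cyclotomic_twelve, cyclotomic_six, cyclotomic_two]
    simp only [eval_add, eval_sub, eval_pow, eval_X, eval_one]
    rw [show ((q : ℤ) ^ 4 - (q : ℤ) ^ 2 + 1) * ((q : ℤ) ^ 2 - q + 1) * ((q : ℤ) + 1) = (P : ℤ) by rw [hPZ]; ring,
      Int.natAbs_natCast]
  have hAdet : A.det.natAbs = P := by
    have hev : (W.charpoly.eval (q : ℤ)).natAbs = P := hcharp ▸ hevalP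
    rw [← hev, Matrix.eval_charpoly, show A = -(Matrix.scalar (Fin chevE7.rank) (q : ℤ) - W) from by
      rw [hA, neg_sub, Matrix.scalar_apply, ← Matrix.smul_one_eq_diagonal], Matrix.det_neg, Int.natAbs_mul,
      Int.natAbs_pow, Int.natAbs_neg, Int.natAbs_one, one_pow, one_mul]
  have hsoc : ∀ p : ℕ, p.Prime → p ^ 2 ∣ P → Nat.card {b : Fin chevE7.rank → ZMod p //
      b ᵥ* W.map (Int.cast : ℤ → ZMod p) = (q : ZMod p) • b} ≤ p := by
    intro p hp hp2
    have : Fact p.Prime := ⟨hp⟩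
    by_cases hM : p ∣ q ^ 3 + 1
    · by_cases hp2' : p = 2
      · subst hp2'
        have hq1' : (q : ZMod 2) = 1 := by
          have h := (ZMod.natCast_eq_zero_iff _ _).2 hM
          push_cast at h
          exact two_cube _ h
        rw [hq1']
        exact hC.card_eigen_two
      · refine hC.card_eigen_odd hp2' (eq_neg_iff_add_eq_zero.2 ?_)
        have h := (ZMod.natCast_eq_zero_iff _ _).2 hM
        push_cast at h
        exact h
    · have hpA : p ∣ Aq := by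
        have h := (dvd_pow_self p two_ne_zero).trans hp2
        rw [hPdef, ← hAq] at h
        exact (hp.dvd_mul.1 h).resolve_right hM
      have hpZ : (p : ℤ) ∣ (q : ℤ) ^ 4 - (q : ℤ) ^ 2 + 1 := hAqZ ▸ Int.natCast_dvd_natCast.2 hpA
      have hz := ScTorus.primitive_twelve (hA23 p hp hpZ).1 (hA23 p hp hpZ).2 hpZ
      have hp12 : ¬ p ∣ 12 := fun h => by
        rcases hp.dvd_mul.1 (show p ∣ 2 ^ 2 * 3 from h) with h1 | h1
        · exact (hA23 p hp hpZ).1 ((Nat.prime_dvd_prime_iff_eq hp Nat.prime_two).1 (hp.dvd_of_dvd_pow h1))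
        · exact (hA23 p hp hpZ).2 ((Nat.prime_dvd_prime_iff_eq hp Nat.prime_three).1 h1)
      obtain ⟨b, -, hb7, hbc⟩ := ScTorus.card_left_eigen W (by norm_num) hC.eig.pow_twelve hp12 hp12 hz
      rw [show Nat.totient 12 = 4 from by decide] at hb7
      refine le_trans hbc.le ((Nat.pow_le_pow_right hp.pos ?_).trans (pow_one p).le)
      show b ≤ 1
      have : b * 4 ≤ 7 := hb7
      omega
  have hAmem : ∀ c, co c ∈ leftKer N A ↔ φ (Y⁻¹ * T c * Y) = Y⁻¹ * T c * Y := by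
    intro c
    rw [mem_leftKer, hA, smul_cast, sub_eq_zero, hW, ← htw, map_mul, map_mul, map_inv, hY]
    constructor
    · intro h; rw [← h]; group
    · intro h
      have h2 := congrArg (fun z => (m : chevE7.SteinbergGroup K) * Y * z * ((m : chevE7.SteinbergGroup K) * Y)⁻¹) h
      simp only [← mul_assoc, mul_inv_rev, inv_inv, mul_inv_cancel_right, inv_mul_cancel_right] at h2
      simp only [mul_assoc, mul_inv_cancel_left, mul_inv_cancel, one_mul, mul_one, inv_mul_cancel_left] at h2 ⊢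
      exact h2.symm
  obtain ⟨A0, hA0⟩ : ∃ A0 : Subgroup (Fin chevE7.rank → Kˣ), ∀ c, c ∈ A0 ↔ co c ∈ leftKer N A :=
    ⟨{ carrier := {c | co c ∈ leftKer N A}
       mul_mem' := fun {a b} ha hb => by
         show co (a * b) ∈ leftKer N A
         rw [hco_mul]; exact add_mem ha hb
       one_mem' := by show co 1 ∈ leftKer N A; rw [hco_one]; exact zero_mem _
       inv_mem' := fun {a} ha => by
         show co a⁻¹ ∈ leftKer N A
         have h := hco_mul a⁻¹ a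
         rw [inv_mul_cancel, hco_one] at h
         rw [eq_neg_of_add_eq_zero_left h.symm]
         exact neg_mem ha }, fun _ => Iff.rfl⟩
  obtain ⟨eA⟩ : Nonempty (↥A0 ≃ ↥(leftKer N A)) := ⟨Equiv.ofBijective (fun c => ⟨co c.1, (hA0 _).1 c.2⟩)
    ⟨fun c c' h => Subtype.ext (hco_inj (congrArg Subtype.val h)), fun a => by
      obtain ⟨c, hc⟩ := hco_surj a
      exact ⟨⟨c, (hA0 _).2 (hc ▸ a.2)⟩, Subtype.ext hc⟩⟩⟩
  have hA0card : Nat.card A0 = P := by
    rw [Nat.card_congr eA, card_leftKer N A (fun h => hP0 (by rw [← hAdet, h]; rfl))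
      (Int.natAbs_dvd.1 (by rw [hAdet]; exact_mod_cast hPN')), hAdet]
  have hcyc : IsCyclic A0 := by
    refine ScTorus.isCyclic_of_socle fun p hp => ?_
    have : Fact p.Prime := ⟨hp⟩
    by_cases hp2 : p ^ 2 ∣ P
    · obtain ⟨e', he'⟩ := ((dvd_pow_self p (two_ne_zero)).trans hp2).trans hPN'
      have hsel : ∀ c : {c : ↥A0 // c ^ p = 1}, ∃ b : Fin chevE7.rank → ℕ,
          (∀ i, co c.1.1 i = ((e' * b i : ℕ) : ZMod N)) ∧
          (fun i => (b i : ZMod p)) ᵥ* W.map (Int.cast : ℤ → ZMod p) = (q : ZMod p) • fun i => (b i : ZMod p) := by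
        intro c
        have hpc : ∀ i, (p : ZMod N) * co c.1.1 i = 0 := fun i => by
          have h := congrFun (hco_pow c.1.1 p) i
          rw [← Subgroup.coe_pow, c.2, OneMemClass.coe_one, hco_one] at h
          simpa using h.symm
        obtain ⟨b, hb, hbe⟩ := exists_lift_eigen hp.pos he' _ hpc
        have hmem := (hA0 _).1 c.1.2
        rw [mem_leftKer, hA, smul_cast, sub_eq_zero] at hmem
        exact ⟨b, hb, hbe W q hmem⟩
      choose bof hbof hbe using hsel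
      refine le_trans (Nat.card_le_card_of_injective (fun c => (⟨fun i => (bof c i : ZMod p), hbe c⟩ :
        {b : Fin chevE7.rank → ZMod p // b ᵥ* W.map (Int.cast : ℤ → ZMod p) = (q : ZMod p) • b}))
        fun c c' h => ?_) (hW ▸ hsoc p hp hp2)
      have h1 := congrArg Subtype.val h
      refine Subtype.ext (Subtype.ext (hco_inj (funext fun j => ?_)))
      rw [hbof, hbof, ZMod.natCast_eq_natCast_iff', he', mul_comm p e', Nat.mul_mod_mul_left, Nat.mul_mod_mul_left]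
      exact congrArg (e' * ·) ((ZMod.natCast_eq_natCast_iff' _ _ _).1 (congrFun h1 j))
    · obtain ⟨S, hS⟩ : ∃ S : Subgroup ↥A0, ∀ c, c ∈ S ↔ c ^ p = 1 :=
        ⟨(powMonoidHom p : ↥A0 →* ↥A0).ker, fun c => MonoidHom.mem_ker⟩
      rw [Nat.card_congr (Equiv.subtypeEquivRight fun c => (hS c).symm)]
      obtain ⟨k, hk⟩ := (IsPGroup.iff_card (p := p) (G := S)).1 fun c => ⟨1, by
        rw [pow_one]; exact Subtype.ext ((hS _).1 c.2)⟩
      rw [hk]
      rcases Nat.lt_or_ge k 2 with h | h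
      · exact (Nat.pow_le_pow_right hp.pos (Nat.lt_succ_iff.1 h)).trans (pow_one p).le
      · exact absurd (((Nat.pow_dvd_pow p h).trans (hk ▸ Subgroup.card_subgroup_dvd_card S)).trans
          (dvd_of_eq hA0card)) hp2
  -- down to the Chevalley group
  obtain ⟨emb, hemb⟩ : ∃ emb : ↥A0 →* chevE7.SteinbergGroup F, ∀ c, J (emb c) = Y⁻¹ * T c.1 * Y := by
    have hpre : ∀ c : ↥A0, ∃ t, J t = Y⁻¹ * T c.1 * Y := fun c => by
      have h := ScTorus.eq_range_of_fixed certE7 witE7 σ ι hj hinjK (hφ ▸ (hAmem c.1).1 ((hA0 _).1 c.2))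
      exact hJ ▸ h
    choose t ht using hpre
    refine ⟨MonoidHom.mk' t fun a b => hJinj ?_, ht⟩
    rw [map_mul, ht, ht, ht, Subgroup.coe_mul, map_mul]; group
  have hemb_inj : Function.Injective emb := fun a b h => by
    have h1 := congrArg J h
    rw [hemb, hemb, mul_left_inj, mul_right_inj] at h1
    exact Subtype.ext (hTinj h1)
  obtain ⟨Hh, hHh⟩ : ∃ Hh, Hh = emb.range := ⟨_, rfl⟩
  obtain ⟨H, hH⟩ : ∃ H, H = Hh.map θF := ⟨_, rfl⟩
  have hHmem : ∀ t, Y * J t * Y⁻¹ ∈ (stRel certE7 K witE7).HS → t ∈ Hh := by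
    intro t ht
    obtain ⟨c, hc⟩ := hTsurj _ ht
    have hcA : c ∈ A0 := by
      rw [hA0, hAmem, show Y⁻¹ * T c * Y = J t by rw [hc]; group, hφJ]
    rw [hHh]
    refine ⟨⟨c, hcA⟩, hJinj ?_⟩
    rw [hemb]
    show Y⁻¹ * T c * Y = J t
    rw [hc]; group
  have hker : θF.ker ≤ Hh := by
    intro z hz
    refine hHmem z (hθker _ ?_)
    rw [map_mul, map_mul, map_inv, hθJ, MonoidHom.mem_ker.1 hz, map_one, mul_one, mul_inv_cancel]
    exact one_mem _
  have hkc : Nat.card θF.ker = g := by rw [hθF, ← center_stGroup certE7 F witE7 hconn, hgc]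
  have hHhcard : Nat.card Hh = P := by
    rw [hHh, Nat.card_congr (MonoidHom.ofInjective hemb_inj).symm.toEquiv, hA0card]
  have hcardH : Nat.card H = P / g := by
    have h1 := Subgroup.card_eq_card_quotient_mul_card_subgroup (θF.comp Hh.subtype).ker
    have h2 : Nat.card ↥(θF.comp Hh.subtype).ker = g := by
      rw [← hkc]
      exact Nat.card_congr
        { toFun := fun z => ⟨z.1.1, MonoidHom.mem_ker.2 (MonoidHom.mem_ker.1 z.2)⟩
          invFun := fun z => ⟨⟨z.1, hker z.2⟩, MonoidHom.mem_ker.2 (MonoidHom.mem_ker.1 z.2)⟩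
          left_inv := fun _ => rfl
          right_inv := fun _ => rfl }
    rw [Nat.card_congr (QuotientGroup.quotientKerEquivRange _).toEquiv, MonoidHom.range_comp, Subgroup.range_subtype, ← hH, h2,
      hHhcard] at h1
    have hg0 : 0 < g := hgc ▸ (by
      have : Finite (chevE7.SteinbergGroup F) := (stRel certE7 F witE7).Finite_of_field
      exact Nat.card_pos)
    rw [h1, Nat.mul_div_cancel _ hg0]
  have hcycH : IsCyclic H := by
    obtain ⟨f', hf'⟩ : ∃ f' : ↥A0 →* ↥H, Function.Surjective f' := by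
      refine ⟨(θF.comp emb).codRestrict H (fun c => ?_), ?_⟩
      · rw [hH, hHh]; exact ⟨_, ⟨c, rfl⟩, rfl⟩
      · rintro ⟨z, hz⟩
        rw [hH, hHh] at hz
        obtain ⟨_, ⟨c, rfl⟩, rfl⟩ := hz
        exact ⟨c, rfl⟩
    exact isCyclic_of_surjective f' hf'
  refine ⟨H, hcycH, hcardH, le_antisymm ?_ ?_⟩
  · intro z hz
    obtain ⟨zh, hzh⟩ := stTheta_surjective certE7 F z
    rw [← hθF] at hzh
    -- a second element, non-trivial on the three roots
    obtain ⟨Lc, hLc⟩ := hMN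
    obtain ⟨E, hEdef⟩ : ∃ E, E = (q : ℤ) ^ 2 • b₁ + (q : ℤ) • b₂ + b₃ := ⟨_, rfl⟩
    obtain ⟨ct, hct⟩ := hco_surj fun i => (((Lc : ℤ) * E i : ℤ) : ZMod N)
    have hctE : ∀ i, co ct i = (((Lc : ℤ) * E i : ℤ) : ZMod N) := fun i => congrFun hct i
    have hNZ : (N : ℤ) = ((q : ℤ) ^ 3 + 1) * (Lc : ℤ) := by rw [hLc]; push_cast; ring
    have hctA : ct ∈ A0 := by
      rw [hA0, mem_leftKer, hA, smul_cast, sub_eq_zero]
      have hEW : E ᵥ* W = (q : ℤ) • E - ((q : ℤ) ^ 3 + 1) • b₁ := by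
        rw [hEdef, Matrix.add_vecMul, Matrix.add_vecMul, Matrix.smul_vecMul, Matrix.smul_vecMul, hC.e₁, hC.e₂, hC.e₃]
        funext i
        simp
        ring
      have e1 : co ct = (Lc : ZMod N) • cast7 N E := funext fun i => by
        rw [hctE, Pi.smul_apply, smul_eq_mul, cast7, Int.cast_mul, Int.cast_natCast]
      rw [e1, Matrix.smul_vecMul, smul_comm (q : ZMod N)]
      unfold cast7
      rw [← ScTorus.cast_vecMul, hEW]
      funext i
      simp only [Pi.smul_apply, smul_eq_mul, Pi.sub_apply, Int.cast_sub, Int.cast_mul, Int.cast_natCast]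
      have h0 : ((((q : ℤ) ^ 3 + 1) * (Lc : ℤ) : ℤ) : ZMod N) = 0 := by
        rw [← hNZ, Int.cast_natCast, ZMod.natCast_self]
      push_cast at h0 ⊢
      linear_combination -((b₁ i : ℤ) : ZMod N) * h0
    have hcsA : cs' ∈ A0 := by
      rw [hA0, mem_leftKer, hA, smul_cast, sub_eq_zero, hW]
      exact (htw m cs').1 hmc
    obtain ⟨cc, hcc⟩ : ∃ cc : Bool → ↥A0, cc false = ⟨cs', hcsA⟩ ∧ cc true = ⟨ct, hctA⟩ :=
      ⟨fun i => bif i then ⟨ct, hctA⟩ else ⟨cs', hcsA⟩, rfl, rfl⟩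
    rw [hH, ← hzh]
    refine Subgroup.mem_map_of_mem θF (hHmem zh (hθker _ ?_))
    obtain ⟨α, hα⟩ : ∃ α : Bool → Fin chevE7.nroots → K, ∀ i s, α i s = ((val (cc i : Fin chevE7.rank → Kˣ) s : Kˣ) : K) :=
      ⟨_, fun _ _ => rfl⟩
    have hαf : ∀ s, α false s = ((val cs' s : Kˣ) : K) := fun s => by rw [hα, hcc.1]
    have hαt : ∀ s, α true s = ((val ct s : Kˣ) : K) := fun s => by rw [hα, hcc.2]
    have hsix : ∀ {b : Fin 7 → ℤ}, Van a b →
        ∃ i < 3, ∃ t ∈ ([1, -1] : List ℤ), ip E b = t * (2 * (q : ℤ) ^ i) ∧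
          b = t • ([b₃, b₂, b₁].getD i 0) := by
      intro b hb
      have v1 : ip E b₁ = 2 * (q : ℤ) ^ 2 := by
        rw [hEdef, ip_add_left, ip_add_left, ip_smul_left, ip_smul_left, hC.triple.v₁.norm, ip_comm b₂ b₁,
          hC.triple.o₁₂, ip_comm b₃ b₁, hC.triple.o₁₃]; ring
      have v2 : ip E b₂ = 2 * (q : ℤ) ^ 1 := by
        rw [hEdef, ip_add_left, ip_add_left, ip_smul_left, ip_smul_left, hC.triple.o₁₂, hC.triple.v₂.norm,
          ip_comm b₃ b₂, hC.triple.o₂₃]; ring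
      have v3 : ip E b₃ = 2 * (q : ℤ) ^ 0 := by
        rw [hEdef, ip_add_left, ip_add_left, ip_smul_left, ip_smul_left, hC.triple.o₁₃, hC.triple.o₂₃,
          hC.triple.v₃.norm]; ring
      rcases hC.triple.only hC.eig hb with rfl | rfl | rfl | rfl | rfl | rfl
      · exact ⟨2, by norm_num, 1, by simp, by rw [v1, one_mul], by simp⟩
      · exact ⟨2, by norm_num, -1, by simp, by rw [ip_neg_right, v1]; ring, by simp⟩
      · exact ⟨1, by norm_num, 1, by simp, by rw [v2, one_mul], by simp⟩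
      · exact ⟨1, by norm_num, -1, by simp, by rw [ip_neg_right, v2]; ring, by simp⟩
      · exact ⟨0, by norm_num, 1, by simp, by rw [v3, one_mul], by simp⟩
      · exact ⟨0, by norm_num, -1, by simp, by rw [ip_neg_right, v3]; ring, by simp⟩
    have hLc0 : (Lc : ℤ) ≠ 0 := fun h => by rw [h, mul_zero] at hNZ; exact NeZero.ne N (by exact_mod_cast hNZ)
    refine mem_HS_of_two hC (chevRel certE7 K) (fun i => θ (T (cc i : Fin chevE7.rank → Kˣ))) α (fun i => ?_)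
      (fun i => ?_) (fun s s' h => ?_) (fun s h => ?_) (fun s s' hs hs' h => ?_) (fun s hs h => ?_) fun i => ?_
    · rw [hθ, hTdef, MonoidHom.comp_apply]
      exact (stTheta_torusHom certE7 K witE7 _).symm ▸ SetLike.coe_mem _
    · have hmon := TrialityTorus.isMon_torusHom (chevRel certE7 K) (cc i : Fin chevE7.rank → Kˣ)
      have hαeq : α i = fun s : Fin chevE7.nroots => ((∏ k : Fin chevE7.rank, (cc i : Fin chevE7.rank → Kˣ) k ^ chevE7.cartan (k : ℕ) (s : ℕ) : Kˣ) : K) :=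
        funext fun s => by rw [hα, hval]
      rw [hαeq, hθ, hTdef, MonoidHom.comp_apply, Subgroup.coe_subtype, stTheta_torusHom certE7 K witE7]
      exact hmon
    · rw [hαf, hαf] at h
      have h1 := congrArg lg (Units.ext h)
      rw [hlgval cs' e B hcoB, hlgval cs' e B hcoB, ZMod.intCast_eq_intCast_iff_dvd_sub, he, Nat.cast_mul,
        mul_comm (r : ℤ), ← mul_sub] at h1
      have h2 := (mul_dvd_mul_iff_left (by exact_mod_cast e0.ne' : (e : ℤ) ≠ 0)).1 h1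
      rw [← ZMod.intCast_eq_intCast_iff_dvd_sub] at h2
      rw [hpair, hpair]; exact h2
    · rw [hαf] at h
      exact (hv1 s).1 (Units.ext h)
    · rw [hαt, hαt] at h
      have h1 := congrArg lg (Units.ext h)
      rw [hlgval ct Lc E hctE, hlgval ct Lc E hctE, ZMod.intCast_eq_intCast_iff_dvd_sub, hNZ,
        mul_comm ((q : ℤ) ^ 3 + 1), ← mul_sub, mul_dvd_mul_iff_left hLc0] at h1
      obtain ⟨i, hi, t, ht, e1, f1⟩ := hsix hs
      obtain ⟨i', hi', t', ht', e2, f2⟩ := hsix hs'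
      rw [e1, e2] at h1
      obtain ⟨rfl, rfl⟩ := six_distinct (show 2 ≤ q by omega) i' hi' i hi t' ht' t ht h1
      exact f1.trans f2.symm
    · rw [hαt] at h
      have h1 := congrArg lg (Units.ext h : val ct s = 1)
      rw [hlgval ct Lc E hctE, hlg_one, ZMod.intCast_zmod_eq_zero_iff_dvd, hNZ, mul_comm ((q : ℤ) ^ 3 + 1),
        mul_dvd_mul_iff_left hLc0] at h1
      obtain ⟨i, hi, t, ht, e1, -⟩ := hsix hs
      rw [e1] at h1
      obtain ⟨-, h2⟩ := six_distinct (show 2 ≤ q by omega) i hi i hi t ht (-t) (by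
        simp only [List.mem_cons, List.not_mem_nil, or_false] at ht ⊢
        omega) (by rw [show t * (2 * (q : ℤ) ^ i) - -t * (2 * (q : ℤ) ^ i) = 2 * (t * (2 * (q : ℤ) ^ i)) by ring]; exact h1.mul_left 2)
      simp only [List.mem_cons, List.not_mem_nil, or_false] at ht
      omega
    · have hxH : θF (emb (cc i)) ∈ H := by
        rw [hH]
        exact Subgroup.mem_map_of_mem θF (hHh ▸ ⟨cc i, rfl⟩)
      have hcomm := Subgroup.mem_centralizer_iff.1 hz _ hxH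
      have hc2 : θ (J zh) * θ (J (emb (cc i))) = θ (J (emb (cc i))) * θ (J zh) := by
        rw [hθJ, hθJ, hzh, ← map_mul (ChevFixed.groupMap chevE7 ι), ← hcomm, map_mul]
      have hs' : T (cc i : Fin chevE7.rank → Kˣ) = Y * J (emb (cc i)) * Y⁻¹ := by rw [hemb]; group
      simp only [hs', map_mul, map_inv, conj_mul, hc2]
  · exact Subgroup.le_centralizer (H := H)

end CfsgLib.Known.E7Torus
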