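import Cfsg.Agent.Lib.Known.E7Torus.Form
import Cfsg.Agent.Lib.Known.ScTorus.Lattice

/-!
# Products of modular torus parameters with lattice vectors
-/

set_option autoImplicit false

namespace CfsgLib.Known.E7Torus

open Cfsg.Lie (ChevalleyDatum chevE7)
open CfsgLib.Lie.Chev
open CfsgLib.Known.Homocyclic (bE7 vE7)
open scoped Matrix

variable {r : ℕ}

/-- The reduction of a vector. -/
def cast7 (r : ℕ) (x : Fin 7 → ℤ) : Fin 7 → ZMod r := fun i => (x i : ZMod r)

/-- A lift of a modular vector. -/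
def lift7 (a : Fin 7 → ZMod r) : Fin 7 → ℤ := fun i => (a i).cast

theorem cast7_lift7 (a : Fin 7 → ZMod r) : cast7 r (lift7 a) = a := funext fun i => ZMod.intCast_zmod_cast (a i)

/-- The product of a modular vector with a lattice vector. -/
def pair (a : Fin 7 → ZMod r) (x : Fin 7 → ℤ) : ZMod r := ∑ i, a i * (((x ᵥ* bE7) i : ℤ) : ZMod r)

theorem pair_cast7 (A x : Fin 7 → ℤ) : pair (cast7 r A) x = ((ip A x : ℤ) : ZMod r) := by
  rw [ip_comm, ip]
  simp only [pair, cast7, dotProduct, Int.cast_sum, Int.cast_mul]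
  exact Finset.sum_congr rfl fun i _ => mul_comm _ _

theorem pair_eq (a : Fin 7 → ZMod r) (x : Fin 7 → ℤ) : pair a x = ((ip (lift7 a) x : ℤ) : ZMod r) := by
  rw [← pair_cast7, cast7_lift7]

theorem pair_add (a a' : Fin 7 → ZMod r) (x : Fin 7 → ℤ) : pair (a + a') x = pair a x + pair a' x := by
  simp [pair, add_mul, Finset.sum_add_distrib]

theorem pair_smul (c : ZMod r) (a : Fin 7 → ZMod r) (x : Fin 7 → ℤ) : pair (c • a) x = c * pair a x := by
  simp [pair, Finset.mul_sum, mul_assoc]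

theorem pair_zero (x : Fin 7 → ℤ) : pair (0 : Fin 7 → ZMod r) x = 0 := by simp [pair]

theorem pair_sum {ι : Type*} (t : Finset ι) (f : ι → Fin 7 → ZMod r) (x : Fin 7 → ℤ) :
    pair (∑ i ∈ t, f i) x = ∑ i ∈ t, pair (f i) x := by
  simp only [pair, Finset.sum_apply, Finset.sum_mul]
  exact Finset.sum_comm

theorem pair_sub_right (a : Fin 7 → ZMod r) (x y : Fin 7 → ℤ) : pair a (x - y) = pair a x - pair a y := by
  rw [pair_eq, pair_eq a x, pair_eq a y, ip_sub_right, Int.cast_sub]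

theorem pair_neg_right (a : Fin 7 → ZMod r) (x : Fin 7 → ℤ) : pair a (-x) = -pair a x := by
  rw [pair_eq, pair_eq a x, ip_neg_right, Int.cast_neg]

theorem pair_smul_right (a : Fin 7 → ZMod r) (c : ℤ) (x : Fin 7 → ℤ) : pair a (c • x) = (c : ZMod r) * pair a x := by
  rw [pair_eq, pair_eq a x, ip_smul_right, Int.cast_mul]

variable {F : Type*} [Field F] {G : Type*} [Group G] {R : Rel chevE7 auxE7 F G}

theorem InW.pair_eq {M : Matrix (Fin 7) (Fin 7) ℤ} (hM : InW R M) (a : Fin 7 → ZMod r) (x : Fin 7 → ℤ) :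
    pair (a ᵥ* M.map (Int.cast : ℤ → ZMod r)) (x ᵥ* M) = pair a x := by
  conv_lhs => rw [← cast7_lift7 a]
  unfold cast7
  rw [← ScTorus.cast_vecMul]
  show pair (cast7 r (lift7 a ᵥ* M)) _ = _
  rw [pair_cast7, hM.ip_eq, ← E7Torus.pair_eq]

/-- Products with an eigenvector along an orbit. -/
theorem InW.pow_mul_pair {M : Matrix (Fin 7) (Fin 7) ℤ} (hM : InW R M) {a : Fin 7 → ZMod r} {z : ZMod r}
    (heig : a ᵥ* M.map (Int.cast : ℤ → ZMod r) = z • a) (x : Fin 7 → ℤ) :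
    ∀ k : ℕ, z ^ k * pair a (x ᵥ* M ^ k) = pair a x
  | 0 => by rw [pow_zero, pow_zero, one_mul, Matrix.vecMul_one]
  | k + 1 => by
    have h := hM.pair_eq a (x ᵥ* M ^ k)
    rw [heig, pair_smul, Matrix.vecMul_vecMul, ← pow_succ] at h
    rw [pow_succ, mul_assoc, h, InW.pow_mul_pair hM heig x k]

/-- An element of the Weyl group fixing a modular vector fixes the products with it. -/
def Fixes (a : Fin 7 → ZMod r) (M : Matrix (Fin 7) (Fin 7) ℤ) : Prop := ∀ x, pair a (x ᵥ* M) = pair a x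

theorem Fixes.pow {a : Fin 7 → ZMod r} {M : Matrix (Fin 7) (Fin 7) ℤ} (h : Fixes a M) : ∀ k, Fixes a (M ^ k)
  | 0 => fun x => by rw [pow_zero, Matrix.vecMul_one]
  | k + 1 => fun x => by rw [pow_succ, ← Matrix.vecMul_vecMul, h, Fixes.pow h k x]

theorem Fixes.mul {a : Fin 7 → ZMod r} {M N : Matrix (Fin 7) (Fin 7) ℤ} (h : Fixes a M) (h' : Fixes a N) :
    Fixes a (M * N) := fun x => by rw [← Matrix.vecMul_vecMul, h', h]

theorem fixes_rfn {a : Fin 7 → ZMod r} {b : Fin 7 → ℤ} (hb : pair a b = 0) : Fixes a (rfn b) := fun x => by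
  rw [vecMul_rfn, pair_sub_right, pair_smul_right, hb, mul_zero, sub_zero]

/-- An element of the Weyl group of order prime to `r` fixing a modular vector and a small vector is trivial,
unless some root is orthogonal to both. -/
theorem InW.eq_one_or_exists [Finite G] {g : Matrix (Fin 7) (Fin 7) ℤ} (hg : InW R g) {o : ℕ}
    (hgo : g ^ o = 1) [Fact r.Prime] (hro : ¬ r ∣ o) {a : Fin 7 → ZMod r} (hfix : Fixes a g) (w : Fin 7 → ℤ)
    (hw : w ᵥ* g = w) (hbd : ∀ s : Fin 126, -999 ≤ ip w (vE7 s) ∧ ip w (vE7 s) ≤ 999) :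
    g = 1 ∨ ∃ s : Fin 126, pair a (vE7 s) = 0 ∧ ip w (vE7 s) = 0 := by
  refine or_iff_not_imp_right.2 fun hne' => ?_
  have hne : ∀ s : Fin 126, pair a (vE7 s) = 0 → ip w (vE7 s) ≠ 0 := fun s h h' => hne' ⟨s, h, h'⟩
  obtain ⟨A, hA⟩ : ∃ A, A = lift7 a := ⟨_, rfl⟩
  obtain ⟨y, hy⟩ : ∃ y, y = ∑ k ∈ Finset.range o, A ᵥ* g ^ k := ⟨_, rfl⟩
  have hyg : y ᵥ* g = y := by
    rw [hy, Matrix.sum_vecMul]
    simp only [Matrix.vecMul_vecMul, ← pow_succ]
    have h0 := Finset.sum_range_succ' (fun k => A ᵥ* g ^ k) o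
    rw [Finset.sum_range_succ, hgo, pow_zero] at h0
    exact (add_right_cancel h0).symm
  have hys : ∀ s : Fin 126, ((ip y (vE7 s) : ℤ) : ZMod r) = (o : ZMod r) * pair a (vE7 s) := by
    intro s
    have hsum : ip y (vE7 s) = ∑ k ∈ Finset.range o, ip (A ᵥ* g ^ k) (vE7 s) := by
      simp only [hy, ip, Matrix.sum_vecMul, sum_dotProduct]
    have hterm : ∀ k ∈ Finset.range o, ((ip (A ᵥ* g ^ k) (vE7 s) : ℤ) : ZMod r) = pair a (vE7 s) := by
      intro k hk
      have hko : k ≤ o := (Finset.mem_range.1 hk).le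
      have e : vE7 s = (vE7 s ᵥ* g ^ (o - k)) ᵥ* g ^ k := by
        rw [Matrix.vecMul_vecMul, ← pow_add, Nat.sub_add_cancel hko, hgo, Matrix.vecMul_one]
      conv_lhs => rw [e]
      rw [(hg.pow k).ip_eq, hA, ← E7Torus.pair_eq, hfix.pow]
    rw [hsum, Int.cast_sum, Finset.sum_congr rfl hterm, Finset.sum_const, Finset.card_range, nsmul_eq_mul]
  refine hg.eq_one ((1000 : ℤ) • y + w) (fun s h0 => ?_) (by rw [Matrix.add_vecMul, Matrix.smul_vecMul, hyg, hw])
  rw [ip_add_left, ip_smul_left] at h0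
  have hb := hbd s
  have hy0 : ip y (vE7 s) = 0 := by omega
  have hp : pair a (vE7 s) = 0 := by
    have := hys s
    rw [hy0, Int.cast_zero] at this
    exact (mul_eq_zero.1 this.symm).resolve_left fun h => hro ((ZMod.natCast_eq_zero_iff _ _).1 h)
  exact hne s hp (by rw [hy0] at h0; linarith)

end CfsgLib.Known.E7Torus
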