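import Cfsg.Agent.Lib.Known.E7Torus.Form
import Cfsg.Agent.Lib.Known.ScTorus.StFunctor
import Cfsg.Agent.Lib.Lie.Rel.SL2

/-!
# The subgroups `SL₂` of orthogonal roots under monomial elements and field automorphisms
-/

set_option autoImplicit false

namespace CfsgLib.Known.E7Torus

open Cfsg.Lie (ChevalleyDatum)
open CfsgLib.Lie.Chev
open scoped MatrixGroups

variable {D : ChevalleyDatum} {X : Aux} {F : Type*} [Field F] {G : Type*} [Group G] (R : Rel D X F G)

/-- Conjugation of a matrix of determinant one by `diag (l, 1)`. -/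
def scal {K : Type*} [Field K] (l : Kˣ) (A : SL(2, K)) : SL(2, K) :=
  ⟨!![A.1 0 0, (l : K) * A.1 0 1; A.1 1 0 / (l : K), A.1 1 1], by
    have h := A.2
    rw [Matrix.det_fin_two] at h
    rw [Matrix.det_fin_two]
    simp only [Matrix.of_apply, Matrix.cons_val', Matrix.cons_val_zero, Matrix.cons_val_one,
      Matrix.cons_val_fin_one]
    refine Eq.trans ?_ h
    field_simp⟩

theorem slMap_ne {c : F} {g : SL(2, F)} (r : Fin D.nroots) {x : F} (hg : g.1 = !![0, x; c, 0]) (hc : c ≠ 0) :
    R.slHom r g = R.ne r (-c⁻¹) := by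
  show R.slEval r (g.1 0 0) (g.1 0 1) (g.1 1 0) (g.1 1 1) = _
  rw [hg]
  simp [Rel.slEval, hc, R.xe_zero]

/-- A monomial element permutes the subgroups of the roots. -/
theorem conj_slHom {m : G} {σ : Equiv.Perm (Fin D.nroots)} {a : Fin D.nroots → F} (hm : R.IsMon m σ a)
    (r : Fin D.nroots) (l : Fˣ) (hl : (l : F) = a r) (A : SL(2, F)) :
    m * R.slHom r A * m⁻¹ = R.slHom (σ r) (scal l A) := by
  show m * R.slEval r (A.1 0 0) (A.1 0 1) (A.1 1 0) (A.1 1 1) * m⁻¹ =
    R.slEval (σ r) (A.1 0 0) ((l : F) * A.1 0 1) (A.1 1 0 / (l : F)) (A.1 1 1)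
  have hxe : ∀ t, m * R.xe r t * m⁻¹ = R.xe (σ r) ((l : F) * t) := fun t => by rw [hl]; exact (hm r).2.2.2 t
  by_cases hc : A.1 1 0 = 0
  · have ha : A.1 0 0 ≠ 0 := fun h => by
      have := A.2
      rw [Matrix.det_fin_two, h, hc] at this
      simp at this
    simp only [Rel.slEval, hc, zero_div, if_true]
    rw [← conj_mul, R.he_conj hm r ha, hxe, mul_div_assoc]
  · have hc' : A.1 1 0 / (l : F) ≠ 0 := div_ne_zero hc l.ne_zero
    simp only [Rel.slEval, if_neg hc, if_neg hc']
    rw [← conj_mul, ← conj_mul, hxe, hxe, Rel.IsMon.conj_ne R hm r, ← hl]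
    have e1 : (l : F) * (A.1 0 0 / A.1 1 0) = A.1 0 0 / (A.1 1 0 / (l : F)) := by field_simp
    have e2 : (l : F) * -(A.1 1 0)⁻¹ = -(A.1 1 0 / (l : F))⁻¹ := by field_simp
    have e3 : (l : F) * (A.1 1 1 / A.1 1 0) = A.1 1 1 / (A.1 1 0 / (l : F)) := by field_simp
    rw [e1, e2, e3]

/-- The subgroups of two roots whose root elements commute commute. -/
theorem slHom_commute {r s : Fin D.nroots} (h1 : ∀ t u, Commute (R.xe r t) (R.xe s u))
    (h2 : ∀ t u, Commute (R.xe r t) (R.xe (R.negF s) u)) (h3 : ∀ t u, Commute (R.xe (R.negF r) t) (R.xe s u))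
    (h4 : ∀ t u, Commute (R.xe (R.negF r) t) (R.xe (R.negF s) u)) (A B : SL(2, F)) :
    Commute (R.slHom r A) (R.slHom s B) := by
  have key : ∀ {x : G}, (∀ u, Commute x (R.xe s u)) → (∀ u, Commute x (R.xe (R.negF s) u)) →
      ∀ y ∈ (R.slHom s).range, Commute x y := by
    intro x hx hx' y hy
    rw [R.slHom_range, ← Subgroup.closure_union] at hy
    induction hy using Subgroup.closure_induction with
    | mem y hy => rcases hy with ⟨t, rfl⟩ | ⟨t, rfl⟩; exacts [hx t, hx' t]
    | one => exact Commute.one_right x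
    | mul _ _ _ _ a b => exact a.mul_right b
    | inv _ _ a => exact a.inv_right
  have hA : R.slHom r A ∈ (R.slHom r).range := ⟨A, rfl⟩
  have hB : R.slHom s B ∈ (R.slHom s).range := ⟨B, rfl⟩
  rw [R.slHom_range, ← Subgroup.closure_union] at hA
  generalize R.slHom r A = w at hA ⊢
  induction hA using Subgroup.closure_induction with
  | mem x hx =>
    rcases hx with ⟨t, rfl⟩ | ⟨t, rfl⟩
    exacts [key (h1 t) (h2 t) _ hB, key (h3 t) (h4 t) _ hB]
  | one => exact Commute.one_left _
  | mul _ _ _ _ a b => exact a.mul_left b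
  | inv _ _ a => exact a.inv_left

theorem xe_commute {r s : Fin D.nroots} (hne : s ≠ r) (hneg : s ≠ R.negF r) (h : D.commTerms r s = []) (t u : F) :
    Commute (R.xe r t) (R.xe s u) := by
  have e := R.xe_comm r s t u r.2 s.2 (fun e => hne (Fin.ext e)) (fun e => hneg (Fin.ext e))
  rw [show D.commWord F r s t u = [] by rw [ChevalleyDatum.commWord, h]; rfl, List.map_nil, List.prod_nil,
    mul_one] at e
  exact e.symm

/-- A torus element on which the root is trivial commutes with the subgroup of the root. -/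
theorem torus_commute_slHom {T : G} {a : Fin D.nroots → F} (hT : R.IsMon T 1 a) {r : Fin D.nroots} (hr : a r = 1)
    (A : SL(2, F)) : Commute T (R.slHom r A) := by
  have h := conj_slHom R hT r 1 (by rw [hr, Units.val_one]) A
  have e : scal (1 : Fˣ) A = A := by
    apply Subtype.ext
    ext i j
    fin_cases i <;> fin_cases j <;> simp [scal]
  rw [e, Equiv.Perm.one_apply, mul_inv_eq_iff_eq_mul] at h
  exact h

section StMap

variable (C : Cert D X) {L : List (ℕ × ℕ × ℕ × List ℤ)} (hL : chkWits D X L = true) {K : Type*} [Field K]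

/-- The map induced on `SL₂`. -/
def mapSL {E : Type*} [Field E] (j : K →+* E) (A : SL(2, K)) : SL(2, E) := Matrix.SpecialLinearGroup.map j A

theorem stMap_slHom {E : Type*} [Field E] (j : K →+* E) (r : Fin D.nroots) (A : SL(2, K)) :
    ScTorus.stMap C hL j ((stRel C K hL).slHom r A) = (stRel C E hL).slHom r (mapSL j A) := by
  show ScTorus.stMap C hL j ((stRel C K hL).slEval r (A.1 0 0) (A.1 0 1) (A.1 1 0) (A.1 1 1)) =
    (stRel C E hL).slEval r (j (A.1 0 0)) (j (A.1 0 1)) (j (A.1 1 0)) (j (A.1 1 1))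
  by_cases hc : A.1 1 0 = 0
  · simp only [Rel.slEval, hc, map_zero, if_true, map_mul]
    rw [ScTorus.stMap_he]
    exact congrArg _ ((ScTorus.stMap_gen C hL j r _).trans (congrArg _ (map_div₀ j _ _)))
  · have hc' : j (A.1 1 0) ≠ 0 := (map_ne_zero j).2 hc
    simp only [Rel.slEval, if_neg hc, if_neg hc', map_mul]
    rw [ScTorus.stMap_ne, map_neg, map_inv₀]
    have e : ∀ x, ScTorus.stMap C hL j ((stRel C K hL).xe r x) = (stRel C E hL).xe r (j x) :=
      fun x => ScTorus.stMap_gen C hL j r x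
    rw [e, e, map_div₀, map_div₀]

/-- The image of a monomial element. -/
theorem isMon_stMap {E : Type*} [Field E] (j : K ≃+* E) {m : D.SteinbergGroup K}
    {σ : Equiv.Perm (Fin D.nroots)} {a : Fin D.nroots → K} (hm : (stRel C K hL).IsMon m σ a) :
    (stRel C E hL).IsMon (ScTorus.stMap C hL j.toRingHom m) σ fun r => j (a r) := by
  intro r
  obtain ⟨h1, h2, h3, h4⟩ := hm r
  refine ⟨(map_ne_zero j.toRingHom).2 h1, ?_, h3, fun t => ?_⟩
  · show j (a _) = (j (a r))⁻¹
    rw [← map_inv₀]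
    exact congrArg j h2
  · obtain ⟨s, rfl⟩ := j.surjective t
    have h := congrArg (ScTorus.stMap C hL j.toRingHom) (h4 s)
    simp only [map_mul, map_inv] at h
    have e : ∀ q x, ScTorus.stMap C hL j.toRingHom ((stRel C K hL).xe q x) = (stRel C E hL).xe q (j x) :=
      fun q x => ScTorus.stMap_gen C hL j.toRingHom q x
    rw [e, e, map_mul] at h
    exact h

end StMap

end CfsgLib.Known.E7Torus
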