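import Cfsg.Agent.Lib.Known.E7Torus.Gram

/-!
# The three orthogonal roots attached to an eigenvector of order twelve
-/

set_option autoImplicit false
set_option maxHeartbeats 800000

namespace CfsgLib.Known.E7Torus

open Cfsg.Lie (ChevalleyDatum chevE7)
open CfsgLib.Lie.Chev
open CfsgLib.Known.Homocyclic (bE7 vE7)
open scoped Matrix
open Polynomial

variable {r : ℕ} [Fact r.Prime] {F : Type*} [Field F] {G : Type*} [Group G] {R : Rel chevE7 auxE7 F G}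
  {W : Matrix (Fin 7) (Fin 7) ℤ} {a : Fin 7 → ZMod r} {z : ZMod r}

/-- A vanishing root. -/
def Van (a : Fin 7 → ZMod r) (b : Fin 7 → ℤ) : Prop := (∃ s : Fin 126, b = vE7 s) ∧ pair a b = 0

theorem Van.norm {b : Fin 7 → ℤ} (h : Van a b) : ip b b = 2 := by
  obtain ⟨⟨s, rfl⟩, -⟩ := h
  exact ip_self_root s

theorem Van.bound {b : Fin 7 → ℤ} (h : Van a b) (s : Fin 126) : -2 ≤ ip b (vE7 s) ∧ ip b (vE7 s) ≤ 2 := by
  obtain ⟨⟨t, rfl⟩, -⟩ := h
  exact ip_roots t s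

theorem Van.mapW {b : Fin 7 → ℤ} (hb : Van a b) (h : Eig R W a z) : Van a (b ᵥ* W) := by
  obtain ⟨⟨s, rfl⟩, h0⟩ := hb
  obtain ⟨s', hs'⟩ := h.inW.roots s
  refine ⟨⟨s', hs'⟩, ?_⟩
  have := h.inW.pow_mul_pair h.eig (vE7 s) 1
  rw [h0, pow_one, pow_one] at this
  exact (mul_eq_zero.1 this).resolve_left (h.prim.ne_zero (by norm_num))

theorem Van.fixed {b : Fin 7 → ℤ} (hb : Van a b) (h : Eig R W a z) : b ᵥ* W ^ 6 = b := by
  obtain ⟨⟨s, rfl⟩, h0⟩ := hb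
  exact h.vanish_fixed h0

theorem Eig.two_ne (h : Eig R W a z) : (2 : ZMod r) ≠ 0 := fun h0 => by
  have h1 : ((2 : ℕ) : ZMod r) = 0 := by exact_mod_cast h0
  have := Nat.le_of_dvd (by norm_num) ((ZMod.natCast_eq_zero_iff _ _).1 h1)
  have := h.large
  omega

/-- There are no four orthogonal vanishing roots. -/
theorem Eig.no_four (h : Eig R W a z) (b : Fin 4 → Fin 7 → ℤ) (hb : ∀ i, Van a (b i))
    (horth : ∀ i j, i ≠ j → ip (b i) (b j) = 0) : False := by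
  classical
  obtain ⟨f, hf⟩ : ∃ f : Module.End (ZMod r) (Fin 7 → ZMod r),
      f = Matrix.vecMulLinear (W.map (Int.cast : ℤ → ZMod r)) := ⟨_, rfl⟩
  obtain ⟨ex, hex⟩ : ∃ ex : Fin 4 → ℕ, ∀ i, ex i = ([1, 5, 7, 11] : List ℕ).getD (i : ℕ) 0 := ⟨_, fun _ => rfl⟩
  have hcop : ∀ i, (ex i).Coprime 12 ∧ ex i < 12 := fun i => by rw [hex]; revert i; decide
  have hμ : Function.Injective fun i => z ^ ex i := fun i j e => by
    have h1 := h.prim.pow_inj (hcop i).2 (hcop j).2 e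
    rw [hex, hex] at h1
    exact (by decide : ∀ i j : Fin 4,
      ([1, 5, 7, 11] : List ℕ).getD (i : ℕ) 0 = ([1, 5, 7, 11] : List ℕ).getD (j : ℕ) 0 → i = j) i j h1
  have hvec : ∀ i, ∃ v : Fin 7 → ZMod r, v ≠ 0 ∧ v ᵥ* W.map (Int.cast : ℤ → ZMod r) = z ^ ex i • v := by
    intro i
    have hroot : (W.map (Int.castRingHom (ZMod r))).charpoly.eval (z ^ ex i) = 0 := by
      obtain ⟨u, hu⟩ := h.dvd_charpoly
      have hz' := h.prim.pow_of_coprime _ (hcop i).1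
      have : NeZero ((12 : ℕ) : ZMod r) := ⟨fun h0 => h.not_dvd ((ZMod.natCast_eq_zero_iff _ _).1 h0)⟩
      rw [Matrix.charpoly_map, hu, Polynomial.map_mul, map_cyclotomic, eval_mul,
        (isRoot_cyclotomic_iff.2 hz').eq_zero, zero_mul]
    rw [Matrix.eval_charpoly] at hroot
    obtain ⟨v, hv, hv'⟩ := Matrix.exists_vecMul_eq_zero_iff.2 hroot
    refine ⟨v, hv, ?_⟩
    rw [Matrix.vecMul_sub, sub_eq_zero] at hv'
    rw [show (Int.cast : ℤ → ZMod r) = ⇑(Int.castRingHom (ZMod r)) from rfl, ← hv']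
    funext j
    simp [Matrix.scalar_apply, Matrix.vecMul_diagonal, mul_comm]
  choose v hv0 hveig using hvec
  have hpv : ∀ i j, pair (v i) (b j) = 0 := by
    intro i j
    have h1 := h.inW.pow_mul_pair (hveig i) (b j) 6
    rw [(hb j).fixed h, ← pow_mul] at h1
    have e : z ^ (ex i * 6) = -1 := by
      rw [mul_comm, pow_mul, h.z_pow_six, neg_one_pow_eq_pow_mod_two, (show ex i % 2 = 1 by
        rw [hex]
        exact (by decide : ∀ k : Fin 4, ([1, 5, 7, 11] : List ℕ).getD (k : ℕ) 0 % 2 = 1) i), pow_one]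
    rw [e, neg_one_mul, neg_eq_iff_add_eq_zero, ← two_mul] at h1
    exact (mul_eq_zero.1 h1).resolve_left h.two_ne
  have hind : LinearIndependent (ZMod r) v :=
    Module.End.eigenvectors_linearIndependent' f (fun i => z ^ ex i) hμ v fun i =>
      ⟨Module.End.mem_eigenspace_iff.2 (by rw [hf]; exact hveig i), hv0 i⟩
  have hli : LinearIndependent (ZMod r) (Sum.elim v fun i => cast7 r (b i)) := by
    rw [Fintype.linearIndependent_iff]
    intro g hg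
    rw [Fintype.sum_sum_type] at hg
    simp only [Sum.elim_inl, Sum.elim_inr] at hg
    have hμ0 : ∀ j, g (Sum.inr j) = 0 := by
      intro j
      have h1 := congrArg (fun u => pair u (b j)) hg
      simp only [pair_add, pair_sum, pair_smul, hpv, mul_zero, Finset.sum_const_zero, zero_add, pair_zero,
        pair_cast7] at h1
      rw [Finset.sum_eq_single j (fun k _ hk => by rw [horth k j hk, Int.cast_zero, mul_zero])
        (fun hk => absurd (Finset.mem_univ j) hk), (hb j).norm] at h1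
      exact (mul_eq_zero.1 h1).resolve_right (by exact_mod_cast h.two_ne)
    simp only [hμ0, zero_smul, Finset.sum_const_zero, add_zero] at hg
    rintro (i | i)
    · exact Fintype.linearIndependent_iff.1 hind (fun i => g (Sum.inl i)) hg i
    · exact hμ0 i
  have hle := hli.fintype_card_le_finrank
  rw [Fintype.card_sum, Fintype.card_fin, Module.finrank_fin_fun] at hle
  omega

theorem vecMul_ext {M N : Matrix (Fin 7) (Fin 7) ℤ} (h : ∀ x : Fin 7 → ℤ, x ᵥ* M = x ᵥ* N) : M = N :=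
  Matrix.ext fun i j => by rw [← single_vecMul_apply M, ← single_vecMul_apply N, h]

theorem ip_symm_of_invol {M : Matrix (Fin 7) (Fin 7) ℤ} (hM : InW R M) (hM2 : M * M = 1) (x y : Fin 7 → ℤ) :
    ip (x ᵥ* M) y = ip x (y ᵥ* M) := by
  conv_rhs => rw [← hM.ip_eq, Matrix.vecMul_vecMul, hM2, Matrix.vecMul_one]

/-- An involution of the Weyl group followed by the reflection in a root it negates. -/
theorem invol_mul_rfn {M : Matrix (Fin 7) (Fin 7) ℤ} (hM : InW R M) (hM2 : M * M = 1) {b : Fin 7 → ℤ}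
    (hb : ip b b = 2) (hbM : b ᵥ* M = -b) : (M * rfn b) * (M * rfn b) = 1 ∧ b ᵥ* (M * rfn b) = b := by
  have hcomm : rfn b * M = M * rfn b := vecMul_ext fun x => by
    rw [← Matrix.vecMul_vecMul, ← Matrix.vecMul_vecMul, vecMul_rfn, vecMul_rfn, Matrix.sub_vecMul, Matrix.smul_vecMul,
      hbM, ip_symm_of_invol hM hM2, hbM, ip_neg_right, neg_smul, smul_neg]
  have hsq : rfn b * rfn b = 1 := vecMul_ext fun x => by
    rw [← Matrix.vecMul_vecMul, vecMul_rfn, vecMul_rfn, ip_sub_left, ip_smul_left, hb, Matrix.vecMul_one,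
      show ip x b - ip x b * 2 = -ip x b by ring, neg_smul]
    abel
  refine ⟨?_, ?_⟩
  · calc M * rfn b * (M * rfn b) = M * (rfn b * M) * rfn b := by noncomm_ring
      _ = (M * M) * (rfn b * rfn b) := by rw [hcomm]; noncomm_ring
      _ = 1 := by rw [hM2, hsq, one_mul]
  · rw [← Matrix.vecMul_vecMul, hbM, vecMul_rfn, ip_neg_left, hb]
    funext i
    simp
    ring

variable [Finite G]

omit [Finite G] in
/-- The negative of the sixth power. -/
theorem Eig.sigma (h : Eig R W a z) :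
    InW R (-W ^ 6) ∧ (-W ^ 6) * (-W ^ 6) = 1 ∧ Fixes a (-W ^ 6) := by
  refine ⟨?_, ?_, fun x => ?_⟩
  · rw [← neg_one_mul]; exact InW.neg_one.mul (h.inW.pow 6)
  · rw [neg_mul_neg, ← pow_add]; exact h.pow_twelve
  · have h1 := h.inW.pow_mul_pair h.eig x 6
    rw [h.z_pow_six, neg_one_mul] at h1
    rw [Matrix.vecMul_neg, pair_neg_right, h1]

/-- The sixth power in terms of three orthogonal vanishing roots. -/
theorem Eig.sigma_eq (h : Eig R W a z) {b₁ b₂ b₃ : Fin 7 → ℤ} (h₁ : Van a b₁) (h₂ : Van a b₂) (h₃ : Van a b₃)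
    (o₁₂ : ip b₁ b₂ = 0) (o₁₃ : ip b₁ b₃ = 0) (o₂₃ : ip b₂ b₃ = 0) (x : Fin 7 → ℤ) :
    x ᵥ* W ^ 6 = ip x b₁ • b₁ + ip x b₂ • b₂ + ip x b₃ • b₃ - x := by
  obtain ⟨hM, hM2, hMa⟩ := h.sigma
  have hneg : ∀ {b}, Van a b → b ᵥ* (-W ^ 6) = -b := fun hb => by rw [Matrix.vecMul_neg, hb.fixed h]
  have hfix : ∀ {b c : Fin 7 → ℤ}, ip c b = 0 → c ᵥ* rfn b = c := fun hbc => by
    rw [vecMul_rfn, hbc, zero_smul, sub_zero]
  have o₂₁ : ip b₂ b₁ = 0 := by rw [ip_comm]; exact o₁₂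
  have o₃₁ : ip b₃ b₁ = 0 := by rw [ip_comm]; exact o₁₃
  have o₃₂ : ip b₃ b₂ = 0 := by rw [ip_comm]; exact o₂₃
  obtain ⟨M1, hM1⟩ : ∃ M1, M1 = -W ^ 6 * rfn b₁ := ⟨_, rfl⟩
  obtain ⟨p1, q1⟩ := invol_mul_rfn hM hM2 h₁.norm (hneg h₁)
  rw [← hM1] at p1 q1
  obtain ⟨⟨s₁, e₁⟩, v₁⟩ := id h₁
  obtain ⟨⟨s₂, e₂⟩, v₂⟩ := id h₂
  obtain ⟨⟨s₃, e₃⟩, v₃⟩ := id h₃
  have w1 : InW R M1 := hM1 ▸ hM.mul (e₁ ▸ InW.reflection s₁)
  have f2 : b₂ ᵥ* M1 = -b₂ := by rw [hM1, ← Matrix.vecMul_vecMul, hneg h₂, Matrix.neg_vecMul, hfix o₂₁]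
  have f3 : b₃ ᵥ* M1 = -b₃ := by rw [hM1, ← Matrix.vecMul_vecMul, hneg h₃, Matrix.neg_vecMul, hfix o₃₁]
  obtain ⟨M2, hM2'⟩ : ∃ M2, M2 = M1 * rfn b₂ := ⟨_, rfl⟩
  obtain ⟨p2, q2⟩ := invol_mul_rfn w1 p1 h₂.norm f2
  rw [← hM2'] at p2 q2
  have w2 : InW R M2 := hM2' ▸ w1.mul (e₂ ▸ InW.reflection s₂)
  have g1 : b₁ ᵥ* M2 = b₁ := by rw [hM2', ← Matrix.vecMul_vecMul, q1, hfix o₁₂]
  have g3 : b₃ ᵥ* M2 = -b₃ := by rw [hM2', ← Matrix.vecMul_vecMul, f3, Matrix.neg_vecMul, hfix o₃₂]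
  obtain ⟨M3, hM3⟩ : ∃ M3, M3 = M2 * rfn b₃ := ⟨_, rfl⟩
  obtain ⟨p3, q3⟩ := invol_mul_rfn w2 p2 h₃.norm g3
  rw [← hM3] at p3 q3
  have w3 : InW R M3 := hM3 ▸ w2.mul (e₃ ▸ InW.reflection s₃)
  have k1 : b₁ ᵥ* M3 = b₁ := by rw [hM3, ← Matrix.vecMul_vecMul, g1, hfix o₁₃]
  have k2 : b₂ ᵥ* M3 = b₂ := by rw [hM3, ← Matrix.vecMul_vecMul, q2, hfix o₂₃]
  have hfa : Fixes a M3 := by
    rw [hM3, hM2', hM1]
    exact ((hMa.mul (fixes_rfn v₁)).mul (fixes_rfn v₂)).mul (fixes_rfn v₃)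
  rcases w3.eq_one_or_exists (o := 2) (by rw [pow_two]; exact p3)
      (fun hd => by have := Nat.le_of_dvd two_pos hd; have := h.large; omega) hfa (b₁ + 5 • b₂ + 25 • b₃)
      (by simp only [Matrix.add_vecMul, Matrix.smul_vecMul, k1, k2, q3]) (fun s => by
        have := h₁.bound s; have := h₂.bound s; have := h₃.bound s
        simp only [ip_add_left, ← natCast_zsmul, ip_smul_left]
        omega) with h1 | ⟨s, hs, hs'⟩
  · have e : x ᵥ* (-W ^ 6) = x ᵥ* (rfn b₃ * rfn b₂ * rfn b₁) := by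
      have hsq : ∀ {b}, ip b b = 2 → rfn b * rfn b = 1 := fun {b} hb => vecMul_ext fun x => by
        rw [← Matrix.vecMul_vecMul, vecMul_rfn, vecMul_rfn, ip_sub_left, ip_smul_left, hb, Matrix.vecMul_one,
          show ip x b - ip x b * 2 = -ip x b by ring, neg_smul]
        abel
      have h2 : -W ^ 6 = M3 * (rfn b₃ * rfn b₂ * rfn b₁) := by
        rw [hM3, hM2', hM1]
        calc -W ^ 6 = -W ^ 6 * (rfn b₁ * (rfn b₂ * (rfn b₃ * rfn b₃) * rfn b₂) * rfn b₁) := by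
              rw [hsq h₃.norm, mul_one, hsq h₂.norm, mul_one, hsq h₁.norm, mul_one]
          _ = _ := by noncomm_ring
      rw [h2, h1, one_mul]
    rw [Matrix.vecMul_neg, ← Matrix.vecMul_vecMul, ← Matrix.vecMul_vecMul, vecMul_rfn, vecMul_rfn, vecMul_rfn] at e
    simp only [ip_sub_left, ip_smul_left, o₂₁, o₃₁, o₃₂, mul_zero, sub_zero] at e
    rw [eq_comm, ← neg_eq_iff_eq_neg, eq_comm] at e
    rw [e]
    abel
  · exfalso
    simp only [ip_add_left, ← natCast_zsmul, ip_smul_left] at hs'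
    have := h₁.bound s; have := h₂.bound s; have := h₃.bound s
    refine h.no_four ![b₁, b₂, b₃, vE7 s] (fun i => ?_) fun i j hij => ?_
    · fin_cases i
      · exact h₁
      · exact h₂
      · exact h₃
      · exact ⟨⟨s, rfl⟩, hs⟩
    · have z1 : ip b₁ (vE7 s) = 0 := by omega
      have z2 : ip b₂ (vE7 s) = 0 := by omega
      have z3 : ip b₃ (vE7 s) = 0 := by omega
      have z1' : ip (vE7 s) b₁ = 0 := by rw [ip_comm]; exact z1
      have z2' : ip (vE7 s) b₂ = 0 := by rw [ip_comm]; exact z2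
      have z3' : ip (vE7 s) b₃ = 0 := by rw [ip_comm]; exact z3
      fin_cases i <;> fin_cases j <;> first | exact absurd rfl hij | assumption

end CfsgLib.Known.E7Torus
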