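import Cfsg.Agent.Lib.Known.E7Torus.RootSL

/-!
# Lang's equation for a twisted `SL₂` over a field of degree four
-/

set_option autoImplicit false

namespace CfsgLib.Known.E7Torus

open scoped MatrixGroups

variable {K : Type*} [Field K] [Fintype K]

theorem exists_pow_eq {D M : ℕ} (hDM : Fintype.card K - 1 = D * M) {c : Kˣ} (hc : c ^ M = 1) :
    ∃ u : Kˣ, u ^ D = c := by
  classical
  obtain ⟨g, hg⟩ := IsCyclic.exists_ofOrder_eq_natCard (α := Kˣ)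
  obtain ⟨k, rfl⟩ : ∃ k : ℕ, g ^ k = c := by
    have h : c ∈ Subgroup.zpowers g := (Subgroup.eq_top_iff' _).1 (Subgroup.eq_top_of_card_eq _
      (by rw [Nat.card_zpowers, hg])) c
    obtain ⟨k, hk⟩ := ((isOfFinOrder_of_finite g).mem_powers_iff_mem_zpowers).2 h
    exact ⟨k, hk⟩
  rw [← pow_mul, ← orderOf_dvd_iff_pow_eq_one, hg, Nat.card_units, Nat.card_eq_fintype_card, hDM] at hc
  have hM : 0 < M := Nat.pos_of_ne_zero fun h => by
    rw [h, mul_zero] at hDM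
    have := Fintype.one_lt_card (α := K)
    omega
  obtain ⟨j, rfl⟩ := Nat.dvd_of_mul_dvd_mul_right hM hc
  exact ⟨g ^ j, by rw [← pow_mul, mul_comm]⟩

/-- The twisted equation. -/
theorem exists_twisted {Q : ℕ} (hQ : 2 ≤ Q) (hK : Fintype.card K = Q ^ 4) {f : K →+* K} (hf : ∀ x, f x = x ^ Q)
    {c : Kˣ} (hc : c * c ^ Q * c ^ Q ^ 2 * c ^ Q ^ 3 = 1) :
    ∃ (d : Kˣ) (N A : SL(2, K)), N.1 = !![0, (d : K); -(d : K)⁻¹, 0] ∧
      mapSL f A = N * scal c A := by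
  classical
  have hQQ : Q ^ 4 - 1 = (Q - 1) * (1 + Q + Q ^ 2 + Q ^ 3) := by
    obtain ⟨k, rfl⟩ : ∃ k, Q = k + 1 := ⟨Q - 1, by omega⟩
    simp only [Nat.add_sub_cancel]
    have : (k + 1) ^ 4 = k * (1 + (k + 1) + (k + 1) ^ 2 + (k + 1) ^ 3) + 1 := by ring
    omega
  have hQ2 : 1 ≤ Q ^ 2 := Nat.one_le_pow _ _ (by omega)
  have hQQ2 : Q ^ 4 - 1 = (Q ^ 2 - 1) * (Q ^ 2 + 1) := by
    obtain ⟨k, hk⟩ : ∃ k, Q ^ 2 = k + 1 := ⟨Q ^ 2 - 1, by omega⟩
    rw [show Q ^ 4 = Q ^ 2 * Q ^ 2 by ring, hk, Nat.add_sub_cancel]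
    have : (k + 1) * (k + 1) = k * (k + 1 + 1) + 1 := by ring
    omega
  obtain ⟨u, hu⟩ : ∃ u : Kˣ, u ^ (Q - 1) = c := exists_pow_eq (D := Q - 1) (M := 1 + Q + Q ^ 2 + Q ^ 3)
    (by rw [hK, hQQ]) (by rw [pow_add, pow_add, pow_add, pow_one, hc])
  obtain ⟨w, hw⟩ : ∃ w : Kˣ, w ^ (Q ^ 2 - 1) = -1 := exists_pow_eq (D := Q ^ 2 - 1) (M := Q ^ 2 + 1)
    (by rw [hK, hQQ2]) (by
      rcases Nat.even_or_odd Q with he | ho
      · have hcard : Even (Fintype.card K) := by rw [hK]; exact he.pow_of_ne_zero (by norm_num)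
        obtain ⟨p, hchar⟩ := CharP.exists K
        obtain ⟨a, hp, hpa⟩ := FiniteField.card K p
        have hp2 : p = 2 := by
          rw [hpa] at hcard
          exact (Nat.Prime.even_iff hp).1 (Nat.even_pow.1 hcard).1
        subst hp2
        have : (-1 : Kˣ) = 1 := Units.ext (by simp [CharTwo.neg_eq])
        rw [this, one_pow]
      · rw [(ho.pow).add_one.neg_one_pow])
  have hcard : ∀ x : K, x ^ Q ^ 4 = x := fun x => by rw [← hK, FiniteField.pow_card]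
  obtain ⟨e, he, heQ⟩ : ∃ e : K, e ^ Q ^ 2 = e ∧ e ^ Q ≠ e := by
    obtain ⟨g, hg⟩ := IsCyclic.exists_ofOrder_eq_natCard (α := Kˣ)
    rw [Nat.card_units, Nat.card_eq_fintype_card, hK, hQQ2] at hg
    obtain ⟨n, hn⟩ : ∃ n : Kˣ, n = g ^ (Q ^ 2 + 1) := ⟨_, rfl⟩
    have hn2 : n ^ (Q ^ 2 - 1) = 1 := by rw [hn, ← pow_mul, mul_comm, ← hg, pow_orderOf_eq_one]
    refine ⟨n, ?_, fun h => ?_⟩
    · rw [← Units.val_pow_eq_pow_val]
      congr 1
      conv_lhs => rw [show Q ^ 2 = Q ^ 2 - 1 + 1 by omega, pow_succ, hn2, one_mul]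
    · rw [← Units.val_pow_eq_pow_val] at h
      have h1 := Units.ext h
      have h2 : n ^ (Q - 1) = 1 := by
        rw [show Q = Q - 1 + 1 by omega, pow_succ] at h1
        exact mul_eq_right.1 h1
      rw [hn, ← pow_mul, ← orderOf_dvd_iff_pow_eq_one, hg, mul_comm (Q ^ 2 + 1)] at h2
      have h3 := Nat.le_of_dvd (by omega) (Nat.dvd_of_mul_dvd_mul_right (by positivity) h2)
      have : Q + 1 ≤ Q ^ 2 := by nlinarith
      omega
  obtain ⟨ω, hω0, hω⟩ : ∃ ω : K, ω ≠ 0 ∧ ω ^ Q ^ 2 = -ω := ⟨w, w.ne_zero, by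
    have h1 : w ^ Q ^ 2 = -w := by
      conv_lhs => rw [show Q ^ 2 = Q ^ 2 - 1 + 1 by omega, pow_succ, hw, neg_one_mul]
    rw [← Units.val_pow_eq_pow_val, h1, Units.val_neg]⟩
  obtain ⟨v, hv⟩ : ∃ v : K, v = (u : K) := ⟨_, rfl⟩
  have hv0 : v ≠ 0 := hv ▸ u.ne_zero
  have hcv : (c : K) * v = v ^ Q := by
    rw [hv, ← hu, Units.val_pow_eq_pow_val, ← pow_succ, show Q - 1 + 1 = Q by omega]
  obtain ⟨κ, hκ⟩ : ∃ κ : K, κ = (ω * ω ^ Q)⁻¹ := ⟨_, rfl⟩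
  have hκQ : f κ = -κ := by
    rw [hκ, hf, inv_pow, mul_pow, ← pow_mul, ← sq, hω, mul_neg, inv_neg, mul_comm (ω ^ Q)]
  have he2 : e - f e ≠ 0 := sub_ne_zero.2 fun h => heQ (by rw [← hf]; exact h.symm)
  have hff : f (f e) = e := by rw [hf, hf, ← pow_mul, ← sq, he]
  obtain ⟨a₀, ha₀⟩ : ∃ a₀ : K, a₀ = κ * e / (e - f e) := ⟨_, rfl⟩
  have hfa : f a₀ = κ * f e / (e - f e) := by
    rw [ha₀, map_div₀, map_mul, map_sub, hff, hκQ]
    rw [show f e - e = -(e - f e) by ring, neg_mul, neg_div_neg_eq]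
  have hffa : f (f a₀) = a₀ := by
    rw [hfa, map_div₀, map_mul, map_sub, hff, hκQ, show f e - e = -(e - f e) by ring, neg_mul, neg_div_neg_eq, ha₀]
  have hdiff : a₀ - f a₀ = κ := by
    rw [hfa, ha₀]; field_simp
  have hfω : f (f ω) = -ω := by rw [hf, hf, ← pow_mul, ← sq, hω]
  obtain ⟨aa, haa⟩ : ∃ aa : K, aa = ω * a₀ / v := ⟨_, rfl⟩
  have hfv : f v = (c : K) * v := by rw [hf, hcv]
  refine ⟨u⁻¹, ⟨!![0, ((u⁻¹ : Kˣ) : K); -((u⁻¹ : Kˣ) : K)⁻¹, 0], ?_⟩,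
    ⟨!![aa, ω; (c : K) * v * f aa, v * f ω], ?_⟩, rfl, ?_⟩
  · rw [Matrix.det_fin_two]
    simp [mul_comm]
  · rw [Matrix.det_fin_two]
    simp only [Matrix.of_apply, Matrix.cons_val', Matrix.cons_val_zero, Matrix.cons_val_one, Matrix.cons_val_fin_one]
    have hne : ω * f ω ≠ 0 := mul_ne_zero hω0 ((map_ne_zero f).2 hω0)
    have hk : κ = (ω * f ω)⁻¹ := by rw [hκ, hf]
    rw [haa, map_div₀, map_mul, hfv]
    have hc0 := c.ne_zero
    field_simp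
    have h1 : (a₀ - f a₀) * (ω * f ω) = 1 := by rw [hdiff, hk, inv_mul_cancel₀ hne]
    linear_combination h1
  · apply Subtype.ext
    have hfcv : f ((c : K) * v * f aa) = -(v * aa) := by
      rw [haa]
      simp only [map_mul, map_div₀, hfω, hffa]
      have hc0 : f (c : K) * f v ≠ 0 := mul_ne_zero ((map_ne_zero f).2 c.ne_zero) ((map_ne_zero f).2 hv0)
      rw [show f (f v) = f (c : K) * f v by rw [← map_mul, ← hfv]]
      have hc1 : f (c : K) ≠ 0 := (map_ne_zero f).2 c.ne_zero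
      have hfv0 : f v ≠ 0 := (map_ne_zero f).2 hv0
      field_simp
      try rw [mul_div_cancel_left₀ _ hfv0]
    have hdv : ((u⁻¹ : Kˣ) : K) = v⁻¹ := by rw [hv, Units.val_inv_eq_inv_val]
    have hc0 := c.ne_zero
    show (!![aa, ω; (c : K) * v * f aa, v * f ω] : Matrix (Fin 2) (Fin 2) K).map f =
      (!![0, ((u⁻¹ : Kˣ) : K); -((u⁻¹ : Kˣ) : K)⁻¹, 0] : Matrix (Fin 2) (Fin 2) K) *
        !![aa, (c : K) * ω; (c : K) * v * f aa / (c : K), v * f ω]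
    rw [hdv, inv_inv, Matrix.mul_fin_two]
    ext i j
    fin_cases i <;> fin_cases j
    · show f aa = 0 * aa + v⁻¹ * ((c : K) * v * f aa / (c : K))
      field_simp
      ring
    · show f ω = 0 * ((c : K) * ω) + v⁻¹ * (v * f ω)
      field_simp
      ring
    · show f ((c : K) * v * f aa) = -v * aa + 0 * ((c : K) * v * f aa / (c : K))
      rw [hfcv]
      ring
    · show f (v * f ω) = -v * ((c : K) * ω) + 0 * (v * f ω)
      rw [map_mul, hfω, hfv]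
      ring

end CfsgLib.Known.E7Torus
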