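import Cfsg.Agent.Lib.Known.ScTorus.Monomial
import Cfsg.Agent.Lib.Known.ScTorus.E6
import Cfsg.Agent.Lib.Lie.Rel.EmbedData

/-!
# A monomial element of `E₇` coming from a regular element of `E₆`
-/

set_option autoImplicit false

namespace CfsgLib.Known.E7Torus

open Cfsg.Lie (ChevalleyDatum chevE6 chevE7)
open CfsgLib.Lie.Chev

/-- The roots of `E₆` inside `E₇`. -/
def idxE6E7 : List ℕ :=
  [6, 10, 13, 15, 16, 19, 21, 22, 24, 25, 26, 28, 29, 30, 31, 32, 35, 37, 38, 40, 41, 42, 44, 45, 46, 47, 49, 50,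
    51, 52, 54, 55, 56, 58, 59, 61, 64, 66, 67, 69, 70, 71, 73, 74, 75, 76, 78, 79, 80, 81, 83, 84, 85, 87, 88, 90,
    93, 94, 95, 96, 97, 99, 100, 101, 103, 104, 106, 109, 110, 112, 115, 119]

theorem embE6E7 : chkEmb chevE6 chevE7 idxE6E7 = true := by decide +kernel

variable {D D' : ChevalleyDatum} {X X' : Aux} {K : Type*} [Field K] {G : Type*} [Group G] (R' : Rel D' X' K G)
  {I : List ℕ} (C : Cert D X) {L : List (ℕ × ℕ × ℕ × List ℤ)}

theorem embHom_mem_NS (h : chkEmb D D' I = true) (hL : chkWits D X L = true) {x : D.SteinbergGroup K}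
    (hx : x ∈ (stRel C K hL).NS) : embHom R' h x ∈ R'.NS := by
  have h' := h
  simp only [chkEmb, Bool.and_eq_true, nat_beq_iff, nat_ble_iff, List.all_eq_true, List.mem_range] at h'
  obtain ⟨⟨⟨⟨_, hrk⟩, _⟩, hsim⟩, _⟩ := h'
  have hgen : ∀ (i : Fin D.rank) (c : K), embHom R' h ((stRel C K hL).ne (D.simple i) c) = R'.ne (D'.simple i) c := by
    intro i c
    show embHom R' h (neOf D (D.stGen K) (D.simple i) c) = neOf D' R'.xe (D'.simple i) c
    simp only [neOf, map_mul, embHom_gen, (emb_props h (C.simple_lt i.2)).2.1]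
    rw [show embIdx D' I (D.simple i) = D'.simple i from hsim i i.2]
  have hle : (stRel C K hL).NS ≤ R'.NS.comap (embHom R' h) := by
    refine sup_le ((Subgroup.closure_le _).2 ?_) ((Subgroup.closure_le _).2 ?_)
    · rintro _ ⟨i, c, hc, rfl⟩
      show embHom R' h ((stRel C K hL).ne (D.simple i) c * (stRel C K hL).ne (D.simple i) (-1)) ∈ R'.NS
      rw [map_mul, hgen, hgen]
      exact mul_mem (R'.ne_simple_mem_NS ⟨i, i.2.trans_le hrk⟩ hc)
        (R'.ne_simple_mem_NS ⟨i, i.2.trans_le hrk⟩ (by norm_num))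
    · rintro _ ⟨i, rfl⟩
      show embHom R' h ((stRel C K hL).ne (D.simple i) 1) ∈ R'.NS
      rw [hgen]
      exact R'.ne_simple_mem_NS ⟨i, i.2.trans_le hrk⟩ one_ne_zero
  exact hle hx

variable (C' : Cert D' X') {L' : List (ℕ × ℕ × ℕ × List ℤ)}

theorem embHom_stMap (h : chkEmb D D' I = true) (hL : chkWits D X L = true) (hL' : chkWits D' X' L' = true)
    (j : K →+* K) (x : D.SteinbergGroup K) :
    embHom (stRel C' K hL') h (ScTorus.stMap C hL j x) = ScTorus.stMap C' hL' j (embHom (stRel C' K hL') h x) := by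
  have e : (embHom (stRel C' K hL') h).comp (ScTorus.stMap C hL j) =
      (ScTorus.stMap C' hL' j).comp (embHom (stRel C' K hL') h) := by
    refine MonoidHom.eq_of_eqOn_dense (stRel C K hL).gen ?_
    rintro _ ⟨r, t, rfl⟩
    show embHom (stRel C' K hL') h (ScTorus.stMap C hL j (D.stGen K r t)) =
      ScTorus.stMap C' hL' j (embHom (stRel C' K hL') h (D.stGen K r t))
    rw [ScTorus.stMap_gen, embHom_gen, embHom_gen]
    exact (ScTorus.stMap_gen C' hL' j _ t).symm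
  exact DFunLike.congr_fun e x

/-- A monomial element of `E₇(K)` of the form `φ(Y) Y⁻¹` acting on a torus element of order `r` as `φ`. -/
theorem exists_monomial_E7 {F : Type*} [Field F] [Fintype F] {K : Type*} [Field K] [Fintype K] [Algebra F K]
    {q r : ℕ} [Fact r.Prime] (hF : Fintype.card F = q) (hK : Fintype.card K = q ^ 12) (hr13 : 13 ≤ r)
    (hr : (r : ℤ) ∣ (q : ℤ) ^ 4 - (q : ℤ) ^ 2 + 1) (σ : K ≃+* K) (hσ : ∀ a, σ a = a ^ q) :
    ∃ (Y : chevE7.SteinbergGroup K) (m : (stRel certE7 K witE7).NS) (c : Fin chevE7.rank → Kˣ), c ≠ 1 ∧ c ^ r = 1 ∧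
      ScTorus.stMap certE7 witE7 σ.toRingHom Y = m * Y ∧
      (m : chevE7.SteinbergGroup K) * ((stRel certE7 K witE7).torusHom c : (stRel certE7 K witE7).HS) *
          (m : chevE7.SteinbergGroup K)⁻¹ =
        ScTorus.stMap certE7 witE7 σ.toRingHom ((stRel certE7 K witE7).torusHom c : (stRel certE7 K witE7).HS) := by
  have hq : 1 < q := hF ▸ Fintype.one_lt_card
  have hle : q ^ 2 ≤ q ^ 4 := Nat.pow_le_pow_right (by omega) (by norm_num)
  have hprim := ScTorus.primitive_twelve (r := r) (by omega) (by omega) hr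
  have hz0 : ((q : ℕ) : ZMod r) ≠ 0 := hprim.ne_zero (by norm_num)
  obtain ⟨P, hP⟩ : ∃ P : ℕ, P = (q ^ 4 - q ^ 2 + 1) * (q ^ 2 + q + 1) := ⟨_, rfl⟩
  have hP' : (P : ℤ) = ((q : ℤ) ^ 4 - (q : ℤ) ^ 2 + 1) * ((q : ℤ) ^ 2 + q + 1) := by
    rw [hP]; push_cast [Nat.cast_sub hle]; ring
  have hr12 : r ∣ q ^ 12 - 1 := by
    rw [← ZMod.natCast_eq_zero_iff, Nat.cast_sub (Nat.one_le_pow _ _ (by omega)), Nat.cast_pow, Nat.cast_one,
      hprim.pow_eq_one, sub_self]
  have hrW : ¬ r ∣ [2, 5, 6, 8, 9, 12].prod := by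
    intro h
    obtain ⟨x, hx, hrx⟩ := (Prime.dvd_prod_iff (Fact.out : r.Prime).prime).1 h
    have hx2 : 0 < x ∧ x ≤ 12 := by simp at hx; omega
    have := Nat.le_of_dvd hx2.1 hrx
    omega
  obtain ⟨Y, m, c, hc1, hcr, hY, hm⟩ := ScTorus.exists_frobenius_monomial certE6 cmat_E6 smithE6 polyE6 rfl
    (by decide +kernel) ScTorus.slacedE6 witE6 embE6E8 (K := K) (n := 12) (r := r) hF hK (by norm_num) hr12
    (fun h => hz0 ((ZMod.natCast_eq_zero_iff _ _).2 h)) hrW ⟨12, by simp, hr12⟩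
    (ScTorus.torusOK_E6 hr13 hr hP') σ hσ
  obtain ⟨E, hE⟩ : ∃ E, E = embHom (stRel certE7 K witE7) embE6E7 := ⟨_, rfl⟩
  have hT := embHom_torusHom (stRel certE7 K witE7) certE6 embE6E7 witE6 c
  refine ⟨E Y, ⟨E m, hE ▸ embHom_mem_NS _ certE6 embE6E7 witE6 m.2⟩, extPar chevE7.rank K c, fun h => hc1 ?_, ?_, ?_, ?_⟩
  · exact extPar_injective (by decide) (h.trans (map_one _).symm)
  · rw [← map_pow, hcr, map_one]
  · show _ = E m * E Y
    rw [← map_mul, ← hY, hE, embHom_stMap]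
  · show E m * _ * (E m)⁻¹ = _
    rw [← hT, ← hE, ← map_inv, ← map_mul, ← map_mul, hm, hE, embHom_stMap]

end CfsgLib.Known.E7Torus
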