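import Cfsg.Agent.Lib.Known.E7Torus.Cycle

/-!
# The element with characteristic polynomial `Φ₁₂ Φ₆ Φ₂`
-/

set_option autoImplicit false
set_option maxHeartbeats 800000

namespace CfsgLib.Known.E7Torus

open Cfsg.Lie (ChevalleyDatum chevE7)
open CfsgLib.Lie.Chev
open CfsgLib.Known.Homocyclic (bE7 vE7)
open scoped Matrix
open Polynomial

variable {r : ℕ} [Fact r.Prime] {F : Type*} [Field F] {G : Type*} [Group G] {R : Rel chevE7 auxE7 F G}
  {W : Matrix (Fin 7) (Fin 7) ℤ} {a : Fin 7 → ZMod r} {z : ZMod r}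

/-- Three vanishing roots permuted in a twisted cycle. -/
structure NegCycle (R : Rel chevE7 auxE7 F G) (W : Matrix (Fin 7) (Fin 7) ℤ) (a : Fin 7 → ZMod r) (z : ZMod r)
    (b₁ b₂ b₃ : Fin 7 → ℤ) : Prop where
  eig : Eig R W a z
  triple : Triple a b₁ b₂ b₃
  e₁ : b₁ ᵥ* W = b₂
  e₂ : b₂ ᵥ* W = b₃
  e₃ : b₃ ᵥ* W = -b₁

theorem eig_mul_rfn (h : Eig R W a z) {b : Fin 7 → ℤ} (hb : Van a b) : Eig R (W * rfn b) a z := by
  refine ⟨h.inW.mul (by obtain ⟨⟨s, rfl⟩, -⟩ := hb; exact InW.reflection s), h.ne, ?_, h.prim, h.large⟩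
  have hfix : a ᵥ* (rfn b).map (Int.cast : ℤ → ZMod r) = a := by
    have h0 := hb.2
    funext j
    simp only [pair] at h0
    simp [rfn, Matrix.vecMul, dotProduct, Matrix.vecMulVec, Matrix.one_apply, mul_sub, Finset.sum_sub_distrib,
      ← mul_assoc, ← Finset.sum_mul]
    simp only [Matrix.vecMul, dotProduct, Int.cast_sum, Int.cast_mul] at h0
    rw [h0]
    simp
  rw [show (W * rfn b).map (Int.cast : ℤ → ZMod r) =
    W.map (Int.cast : ℤ → ZMod r) * (rfn b).map (Int.cast : ℤ → ZMod r) from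
    Matrix.map_mul (f := Int.castRingHom (ZMod r))]
  rw [← Matrix.vecMul_vecMul, h.eig, Matrix.smul_vecMul, hfix]

/-- A twisted cycle exists, after following `W` by a reflection if necessary. -/
theorem Eig.exists_negCycle [Finite G] (h : Eig R W a z) :
    ∃ b₁ b₂ b₃ : Fin 7 → ℤ, NegCycle R W a z b₁ b₂ b₃ ∨
      (b₁ ᵥ* W = b₂ ∧ b₂ ᵥ* W = b₃ ∧ b₃ ᵥ* W = b₁ ∧ NegCycle R (W * rfn b₁) a z b₁ b₂ b₃) := by
  obtain ⟨b₁, b₂, b₃, δ, T, hδ, e₁, e₂, e₃⟩ := h.exists_cycle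
  refine ⟨b₁, b₂, b₃, ?_⟩
  rcases hδ with rfl | rfl
  · rw [one_smul] at e₃
    refine Or.inr ⟨e₁, e₂, e₃, eig_mul_rfn h T.v₁, T, ?_, ?_, ?_⟩
    · rw [← Matrix.vecMul_vecMul, e₁, vecMul_rfn, ip_comm, T.o₁₂, zero_smul, sub_zero]
    · rw [← Matrix.vecMul_vecMul, e₂, vecMul_rfn, ip_comm, T.o₁₃, zero_smul, sub_zero]
    · rw [← Matrix.vecMul_vecMul, e₃, vecMul_rfn, T.v₁.norm]
      funext i
      simp
      ring
  · exact Or.inl ⟨h, T, e₁, e₂, by rw [e₃, neg_one_smul]⟩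

variable {b₁ b₂ b₃ : Fin 7 → ℤ}

theorem NegCycle.root_of_cube (C : NegCycle R W a z b₁ b₂ b₃) {x : ℂ} (hx : x ^ 3 = -1) :
    aeval x W.charpoly = 0 := by
  obtain ⟨ν, hν⟩ : ∃ ν : ℂ, ν = -x ^ 2 := ⟨_, rfl⟩
  obtain ⟨u, hu⟩ : ∃ u : Fin 7 → ℂ, ∀ i, u i = (b₁ i : ℂ) + ν * (b₂ i : ℂ) + ν ^ 2 * (b₃ i : ℂ) := ⟨_, fun _ => rfl⟩
  have hWC : ∀ (v : Fin 7 → ℤ) (j : Fin 7), ∑ i, (v i : ℂ) * (W i j : ℂ) = (((v ᵥ* W) j : ℤ) : ℂ) := fun v j => by
    simp [Matrix.vecMul, dotProduct]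
  have heig : u ᵥ* W.map (Int.castRingHom ℂ) = x • u := by
    funext j
    simp only [Matrix.vecMul, dotProduct, Matrix.map_apply, eq_intCast, Pi.smul_apply, smul_eq_mul, hu, add_mul,
      Finset.sum_add_distrib, mul_assoc, ← Finset.mul_sum]
    rw [hWC, hWC, hWC, C.e₁, C.e₂, C.e₃, Pi.neg_apply, Int.cast_neg, hν]
    linear_combination ((b₂ j : ℂ) - (b₁ j : ℂ) * x - (b₃ j : ℂ) * x ^ 2) * hx
  have hu0 : u ≠ 0 := by
    intro h0
    have h1 : ∑ i, u i * (((b₁ ᵥ* bE7) i : ℤ) : ℂ) = 0 := by simp [h0]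
    have hp : ∀ v : Fin 7 → ℤ, ∑ i, (v i : ℂ) * (((b₁ ᵥ* bE7) i : ℤ) : ℂ) = ((ip b₁ v : ℤ) : ℂ) := fun v => by
      simp only [ip, dotProduct, Int.cast_sum, Int.cast_mul]
      exact Finset.sum_congr rfl fun i _ => mul_comm _ _
    simp only [hu, add_mul, Finset.sum_add_distrib, mul_assoc, ← Finset.mul_sum, hp, C.triple.v₁.norm, C.triple.o₁₂,
      C.triple.o₁₃] at h1
    norm_num at h1
  have hdet : (Matrix.scalar (Fin 7) x - W.map (Int.castRingHom ℂ)).det = 0 :=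
    Matrix.exists_vecMul_eq_zero_iff.1 ⟨u, hu0, by
      rw [Matrix.vecMul_sub, heig, sub_eq_zero]
      funext j
      simp [Matrix.scalar_apply, Matrix.vecMul_diagonal, mul_comm]⟩
  rw [← Matrix.eval_charpoly, Matrix.charpoly_map, eval_map] at hdet
  exact hdet

theorem NegCycle.charpoly_eq (C : NegCycle R W a z b₁ b₂ b₃) :
    W.charpoly = cyclotomic 12 ℤ * cyclotomic 6 ℤ * cyclotomic 2 ℤ := by
  have hd2 : cyclotomic 2 ℤ ∣ W.charpoly := by
    have hp : IsPrimitiveRoot (-1 : ℂ) 2 := IsPrimitiveRoot.neg_one 0 (by norm_num)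
    rw [cyclotomic_eq_minpoly hp two_pos]
    exact minpoly.isIntegrallyClosed_dvd (hp.isIntegral two_pos) (C.root_of_cube (by norm_num))
  have hd6 : cyclotomic 6 ℤ ∣ W.charpoly := by
    obtain ⟨x, hx⟩ : ∃ x : ℂ, IsPrimitiveRoot x 6 := ⟨_, Complex.isPrimitiveRoot_exp 6 (by norm_num)⟩
    rw [cyclotomic_eq_minpoly hx (by norm_num)]
    refine minpoly.isIntegrallyClosed_dvd (hx.isIntegral (by norm_num)) (C.root_of_cube ?_)
    exact (mul_self_eq_one_iff.1 (show x ^ 3 * x ^ 3 = 1 by rw [← pow_add]; exact hx.pow_eq_one)).resolve_left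
      (hx.pow_ne_one_of_pos_of_lt (by norm_num) (by norm_num))
  have hpr : ∀ n, 0 < n → Prime (cyclotomic n ℤ) := fun n hn => (cyclotomic.irreducible hn).prime
  have hnd : ∀ {k n : ℕ}, 0 < k → 0 < n → k ≠ n → ¬ cyclotomic k ℤ ∣ cyclotomic n ℤ := fun {k n} hk hn hkn hd => by
    refine hkn ?_
    have h1 : cyclotomic k ℤ = cyclotomic n ℤ := eq_of_monic_of_associated (cyclotomic.monic k ℤ) (cyclotomic.monic n ℤ)
      ((cyclotomic.irreducible hk).associated_of_dvd (cyclotomic.irreducible hn) hd)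
    have h2 := congrArg (Polynomial.map (Int.castRingHom ℂ)) h1
    rw [map_cyclotomic, map_cyclotomic] at h2
    exact cyclotomic_injective h2
  obtain ⟨u, hu⟩ := C.eig.dvd_charpoly
  rw [hu] at hd2 hd6
  obtain ⟨g, hg⟩ := ((hpr 6 (by norm_num)).dvd_mul.1 hd6).resolve_left (hnd (by norm_num) (by norm_num) (by norm_num))
  rw [hg, ← mul_assoc] at hd2
  obtain ⟨g', hg'⟩ := ((hpr 2 two_pos).dvd_mul.1 hd2).resolve_left fun hd =>
    ((hpr 2 two_pos).dvd_mul.1 hd).elim (hnd two_pos (by norm_num) (by norm_num))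
      (hnd two_pos (by norm_num) (by norm_num))
  have hm : (cyclotomic 12 ℤ * cyclotomic 6 ℤ * cyclotomic 2 ℤ).Monic :=
    ((cyclotomic.monic 12 ℤ).mul (cyclotomic.monic 6 ℤ)).mul (cyclotomic.monic 2 ℤ)
  refine (eq_of_monic_of_dvd_of_natDegree_le hm W.charpoly_monic ⟨g', by rw [hu, hg, hg']; ring⟩ ?_)
  rw [Matrix.charpoly_natDegree_eq_dim, Fintype.card_fin, ((cyclotomic.monic 12 ℤ).mul (cyclotomic.monic 6 ℤ)).natDegree_mul
    (cyclotomic.monic 2 ℤ), (cyclotomic.monic 12 ℤ).natDegree_mul (cyclotomic.monic 6 ℤ), natDegree_cyclotomic,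
    natDegree_cyclotomic, natDegree_cyclotomic]
  decide

variable [Finite G]

/-- Modular eigenvectors for a cube root of `-1` are determined by one product. -/
theorem NegCycle.card_eigen_odd (C : NegCycle R W a z b₁ b₂ b₃) {p : ℕ} [Fact p.Prime] (hp : p ≠ 2) {w : ZMod p}
    (hw : w ^ 3 = -1) :
    Nat.card {v : Fin 7 → ZMod p // v ᵥ* W.map (Int.cast : ℤ → ZMod p) = w • v} ≤ p := by
  have h2 : (2 : ZMod p) ≠ 0 := fun h0 => hp ((Nat.prime_dvd_prime_iff_eq (Fact.out : p.Prime) Nat.prime_two).1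
    ((ZMod.natCast_eq_zero_iff _ _).1 (by exact_mod_cast h0)))
  have hw0 : w ≠ 0 := fun h0 => by rw [h0] at hw; norm_num at hw
  refine (Nat.card_le_card_of_injective (fun v => pair v.1 b₁) fun v v' e => ?_).trans (Nat.card_zmod p).le
  have key : ∀ x : {v : Fin 7 → ZMod p // v ᵥ* W.map (Int.cast : ℤ → ZMod p) = w • v},
      (2 : ZMod p) • x.1 = pair x.1 b₁ • cast7 p b₁ + (w⁻¹ * pair x.1 b₁) • cast7 p b₂
        + (w⁻¹ * w⁻¹ * pair x.1 b₁) • cast7 p b₃ := by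
    intro x
    obtain ⟨X, hX⟩ : ∃ X, X = lift7 x.1 := ⟨_, rfl⟩
    have hs := congrArg (cast7 p) (C.eig.sigma_eq C.triple.v₁ C.triple.v₂ C.triple.v₃ C.triple.o₁₂ C.triple.o₁₃
      C.triple.o₂₃ X)
    have h6 : ∀ k : ℕ, cast7 p (X ᵥ* W ^ k) = w ^ k • x.1 := by
      intro k
      induction k with
      | zero => rw [pow_zero, pow_zero, Matrix.vecMul_one, one_smul, hX, cast7_lift7]
      | succ k ih =>
        rw [pow_succ, ← Matrix.vecMul_vecMul]
        unfold cast7 at ih ⊢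
        rw [ScTorus.cast_vecMul, ih, Matrix.smul_vecMul, x.2, smul_smul, ← pow_succ]
    rw [h6, show (6 : ℕ) = 3 * 2 from rfl, pow_mul, hw, neg_one_sq, one_smul] at hs
    have hpx : ∀ b : Fin 7 → ℤ, ((ip X b : ℤ) : ZMod p) = pair x.1 b := fun b => by rw [hX, ← pair_eq]
    have hstep : ∀ b : Fin 7 → ℤ, pair x.1 (b ᵥ* W) = w⁻¹ * pair x.1 b := fun b => by
      have h1 := C.eig.inW.pow_mul_pair x.2 b 1
      rw [pow_one, pow_one] at h1
      rw [← h1, inv_mul_cancel_left₀ hw0]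
    have p2 : pair x.1 b₂ = w⁻¹ * pair x.1 b₁ := by rw [← C.e₁, hstep]
    have p3 : pair x.1 b₃ = w⁻¹ * w⁻¹ * pair x.1 b₁ := by rw [← C.e₂, hstep, p2, mul_assoc]
    funext i
    have hi := congrFun hs i
    simp only [cast7, Pi.add_apply, Pi.sub_apply, Pi.smul_apply, smul_eq_mul, Int.cast_add, Int.cast_sub,
      Int.cast_mul, hpx, p2, p3] at hi ⊢
    have hXi : ((X i : ℤ) : ZMod p) = x.1 i := by rw [hX]; exact congrFun (cast7_lift7 x.1) i
    rw [hXi] at hi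
    linear_combination hi
  have h1 : pair v.1 b₁ = pair v'.1 b₁ := e
  have h3 := key v
  rw [h1, ← key v'] at h3
  exact Subtype.ext (smul_right_injective _ h2 h3)

/-- The fixed vectors modulo two. -/
theorem NegCycle.card_eigen_two (C : NegCycle R W a z b₁ b₂ b₃) :
    Nat.card {v : Fin 7 → ZMod 2 // v ᵥ* W.map (Int.cast : ℤ → ZMod 2) = (1 : ZMod 2) • v} ≤ 2 := by
  obtain ⟨e, he⟩ : ∃ e, e = b₁ - b₂ + b₃ := ⟨_, rfl⟩
  have hann : (W ^ 4 - W ^ 2 + 1) * (W ^ 2 - W + 1) * (W + 1) = 0 := by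
    have h := W.aeval_self_charpoly
    rw [C.charpoly_eq, ScTorus.cyclotomic_twelve, cyclotomic_six, cyclotomic_two] at h
    simpa only [map_mul, map_add, map_sub, map_pow, aeval_X, map_one] using h
  have key : ∀ x : {v : Fin 7 → ZMod 2 // v ᵥ* W.map (Int.cast : ℤ → ZMod 2) = (1 : ZMod 2) • v},
      x.1 = 0 ∨ x.1 = cast7 2 e := by
    intro x
    obtain ⟨X, hX⟩ : ∃ X, X = lift7 x.1 := ⟨_, rfl⟩
    obtain ⟨p, hp⟩ : ∃ p, p = X + X ᵥ* W ^ 4 + X ᵥ* W ^ 8 := ⟨_, rfl⟩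
    have hk : ∀ k : ℕ, cast7 2 (X ᵥ* W ^ k) = x.1 := by
      intro k
      induction k with
      | zero => rw [pow_zero, Matrix.vecMul_one, hX, cast7_lift7]
      | succ k ih =>
        rw [pow_succ, ← Matrix.vecMul_vecMul]
        unfold cast7 at ih ⊢
        rw [ScTorus.cast_vecMul, ih, x.2, one_smul]
    have hpx : cast7 2 p = x.1 := by
      have h0 := hk 0
      rw [pow_zero, Matrix.vecMul_one] at h0
      funext i
      have a0 := congrFun h0 i; have a4 := congrFun (hk 4) i; have a8 := congrFun (hk 8) i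
      simp only [cast7] at a0 a4 a8 ⊢
      rw [hp, Pi.add_apply, Pi.add_apply, Int.cast_add, Int.cast_add, a0, a4, a8]
      rw [add_assoc, ← two_mul, show (2 : ZMod 2) = 0 from rfl, zero_mul, add_zero]
    have hpe : p = X ᵥ* ((W ^ 4 - W ^ 2 + 1) * (W ^ 4 + W ^ 2 + 1)) := by
      rw [show (W ^ 4 - W ^ 2 + 1) * (W ^ 4 + W ^ 2 + 1) = 1 + W ^ 4 + W ^ 8 by noncomm_ring, hp,
        Matrix.vecMul_add, Matrix.vecMul_add, Matrix.vecMul_one]
    have hpW : p ᵥ* W = -p := by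
      rw [eq_neg_iff_add_eq_zero]
      calc p ᵥ* W + p = p ᵥ* (W + 1) := by rw [Matrix.vecMul_add, Matrix.vecMul_one]
        _ = X ᵥ* (((W ^ 4 - W ^ 2 + 1) * (W ^ 2 - W + 1) * (W + 1)) * (W ^ 2 + W + 1)) := by
            rw [hpe, Matrix.vecMul_vecMul]; congr 1; noncomm_ring
        _ = 0 := by rw [hann, zero_mul, Matrix.vecMul_zero]
    have hp6 : p ᵥ* W ^ 6 = p := by
      rw [show W ^ 6 = W * W * W * W * W * W by noncomm_ring]
      simp only [← Matrix.vecMul_vecMul, hpW, Matrix.neg_vecMul, neg_neg]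
    obtain ⟨c, hc⟩ : ∃ c, c = ip p b₁ := ⟨_, rfl⟩
    have hc2 : ip p b₂ = -c := by
      have := C.eig.inW.ip_eq p b₁
      rw [hpW, C.e₁, ip_neg_left, ← hc] at this
      linarith
    have hc3 : ip p b₃ = c := by
      have := C.eig.inW.ip_eq p b₂
      rw [hpW, C.e₂, ip_neg_left, hc2] at this
      linarith
    have hs := C.eig.sigma_eq C.triple.v₁ C.triple.v₂ C.triple.v₃ C.triple.o₁₂ C.triple.o₁₃ C.triple.o₂₃ p
    rw [hp6, hc2, hc3, ← hc, eq_sub_iff_add_eq] at hs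
    have h2p : p + p = c • e := by
      rw [hs, he, smul_add, smul_sub, neg_smul]; abel
    have hee : ip e e = 6 := by
      rw [he]
      simp only [ip_add_left, ip_add_right, ip_sub_left, ip_sub_right, C.triple.v₁.norm, C.triple.v₂.norm,
        C.triple.v₃.norm, C.triple.o₁₂, C.triple.o₁₃, C.triple.o₂₃, ip_comm b₂ b₁, ip_comm b₃ b₁, ip_comm b₃ b₂]
      norm_num
    obtain ⟨d, rfl | rfl⟩ : ∃ d : ℤ, c = 2 * d ∨ c = 2 * d + 1 := ⟨c / 2, by omega⟩
    · have hpd : p = d • e := funext fun i => by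
        have := congrFun h2p i
        simp at this ⊢
        linarith
      have hde : x.1 = (d : ZMod 2) • cast7 2 e := by
        rw [← hpx, hpd]
        funext i
        simp [cast7]
      rcases (show (d : ZMod 2) = 0 ∨ (d : ZMod 2) = 1 by generalize (d : ZMod 2) = t; revert t; decide) with h | h
      · left; rw [hde, h, zero_smul]
      · right; rw [hde, h, one_smul]
    · exfalso
      obtain ⟨g, hg⟩ : ∃ g, g = p - d • e := ⟨_, rfl⟩
      have hge : g + g = e := funext fun i => by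
        have := congrFun h2p i
        simp [hg] at this ⊢
        linarith
      have h4 : 4 * ip g g = 6 := by
        rw [← hee, ← hge]; simp only [ip_add_left, ip_add_right]; ring
      omega
  classical
  have hsub : ({v | v ᵥ* W.map (Int.cast : ℤ → ZMod 2) = (1 : ZMod 2) • v} : Set (Fin 7 → ZMod 2)) ⊆
      {0, cast7 2 e} := fun v hv => key ⟨v, hv⟩
  refine le_trans (Nat.card_mono (Set.toFinite _) hsub) ?_
  rw [Nat.card_coe_set_eq]
  exact (Set.ncard_insert_le _ _).trans (by rw [Set.ncard_singleton])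

end CfsgLib.Known.E7Torus
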